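import Cfsg.Agent.ThreePrime.Solvable
import Cfsg.Agent.Suz.MultEight
import Cfsg.Agent.Components.Layer
import Cfsg.Agent.Components.Supplement

/-!
Components of order prime to three and elements of order three with soluble centralizer.
-/

set_option autoImplicit false
set_option linter.style.haveILetI false
set_option linter.unusedSectionVars false

namespace Cfsg.Lib.ThreePrime

open Subgroup

universe u

variable {G : Type u} [Group G] [Finite G]

theorem solvable_of_injective_into {H : Type*} [Group H] {U : Subgroup G} (hU : Group.IsSolvable U)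
    (f : H →* G) (hf : Function.Injective f) (hle : ∀ h, f h ∈ U) : Group.IsSolvable H :=
  Group.isSolvable_of_isSolvable_injective (f := f.codRestrict U hle)
    (fun _ _ e => hf (congrArg Subtype.val e))

/-- An element of order three with soluble centralizer normalizes a component of order prime to three. -/
theorem component_normalized {K : Subgroup G} (hK : Cfsg.IsComponent K) {y : G} (hy : y ^ 3 = 1)
    (hsol : Group.IsSolvable (centralizer ({y} : Set G))) :
    K.map (MulAut.conj y).toMonoidHom = K := by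
  by_contra hne
  set c := MulAut.conj y with hc
  have hthree : ∀ g : G, c (c (c g)) = g := fun g => by
    have h := DFunLike.congr_fun (show c ^ 3 = 1 by rw [hc, ← map_pow, hy, map_one]) g
    rwa [pow_three, MulAut.mul_apply, MulAut.mul_apply, MulAut.one_apply] at h
  set K₁ := K.map c.toMonoidHom with hK₁
  set K₂ := K₁.map c.toMonoidHom with hK₂
  have hi : Function.Injective c.toMonoidHom := c.injective
  have hcyc : K₂.map c.toMonoidHom = K := by
    rw [hK₂, hK₁, map_map, map_map]
    conv_rhs => rw [← K.map_id]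
    congr 1
    exact MonoidHom.ext hthree
  have h1 := Cfsg.Lib.Components.comp_conj hK y
  have h2 := Cfsg.Lib.Components.comp_conj h1 y
  have hne12 : K₂ ≠ K₁ := fun e => hne (Subgroup.map_injective hi e)
  have hne20 : K ≠ K₂ := fun e => hne12 (by
    have := congrArg (Subgroup.map c.toMonoidHom) e
    rw [hcyc] at this
    exact (this.trans e).symm)
  have c01 : ∀ {a b : G}, a ∈ K → b ∈ K₁ → Commute a b := fun ha hb =>
    Cfsg.Lib.Components.commute_of_commutator_eq_bot (Cfsg.Lib.Components.comp_commute hK h1 (Ne.symm hne)) ha hb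
  have c12 : ∀ {a b : G}, a ∈ K₁ → b ∈ K₂ → Commute a b := fun ha hb =>
    Cfsg.Lib.Components.commute_of_commutator_eq_bot (Cfsg.Lib.Components.comp_commute h1 h2 (Ne.symm hne12)) ha hb
  have c02 : ∀ {a b : G}, a ∈ K → b ∈ K₂ → Commute a b := fun ha hb =>
    Cfsg.Lib.Components.commute_of_commutator_eq_bot (Cfsg.Lib.Components.comp_commute hK h2 hne20) ha hb
  have m1 : ∀ k : K, c k ∈ K₁ := fun k => mem_map_of_mem c.toMonoidHom k.2
  have m2 : ∀ k : K, c (c k) ∈ K₂ := fun k => mem_map_of_mem c.toMonoidHom (m1 k)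
  let δ : K →* G := MonoidHom.mk' (fun k => (k : G) * (c k * c (c k))) fun a b => by
    show ((a * b : K) : G) * _ = _
    rw [Subgroup.coe_mul, map_mul, map_mul]
    calc (a : G) * b * (c a * c b * (c (c a) * c (c b)))
        = a * b * (c a * (c b * c (c a)) * c (c b)) := by group
      _ = a * b * (c a * (c (c a) * c b) * c (c b)) := by rw [(c12 (m1 b) (m2 a)).eq]
      _ = a * ((b : G) * (c a * c (c a))) * (c b * c (c b)) := by group
      _ = a * ((c a * c (c a)) * b) * (c b * c (c b)) := by
          rw [((c01 b.2 (m1 a)).mul_right (c02 b.2 (m2 a))).eq]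
      _ = a * (c a * c (c a)) * (b * (c b * c (c b))) := by group
  have hδ : ∀ k, δ k ∈ centralizer ({y} : Set G) := fun k => by
    refine mem_centralizer_iff.2 fun z hz => ?_
    rw [Set.mem_singleton_iff] at hz
    subst hz
    have hfix : c (δ k) = δ k := by
      show c ((k : G) * (c k * c (c k))) = (k : G) * (c k * c (c k))
      rw [map_mul, map_mul, hthree]
      exact (mul_assoc _ _ _).symm.trans ((c01 k.2 (m1 k)).mul_right (c02 k.2 (m2 k))).eq.symm
    rw [hc, MulAut.conj_apply] at hfix
    exact mul_inv_eq_iff_eq_mul.1 hfix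
  refine Cfsg.Lib.Components.comp_not_isSolvable hK ?_
  haveI := hsol
  haveI : Group.IsSolvable (center K) := Group.isSolvable_of_comm fun a b => Subtype.ext (mem_center_iff.1 b.2 a)
  refine Group.isSolvable_of_ker_le_range (center K).subtype (δ.codRestrict _ hδ) ?_
  intro k hk
  rw [MonoidHom.ker_codRestrict, MonoidHom.mem_ker] at hk
  rw [Subgroup.range_subtype, mem_center_iff]
  intro g
  refine Subtype.ext ?_
  show (g : G) * k = k * g
  have hk' : (k : G) = (c k * c (c k))⁻¹ := eq_inv_of_mul_eq_one_left hk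
  rw [hk']
  exact (((c01 g.2 (m1 k)).mul_right (c02 g.2 (m2 k))).inv_right).eq

/-- The component modulo its centre is `Sz(8)`. -/
theorem component_sz_eight {K : Subgroup G} (hK : Cfsg.IsComponent K) (h3 : ¬ 3 ∣ Nat.card K) {y : G}
    (hy : y ^ 3 = 1) (hsol : Group.IsSolvable (centralizer ({y} : Set G))) :
    ∃ (F : Type) (_ : Field F) (_ : Fintype F) (_ : Cfsg.Lib.Suz.Par F 1),
      Nonempty (K ⧸ center K ≃* ↥(Cfsg.Sz F 1)) := by
  classical
  haveI := hK.2.2
  have hc := component_normalized hK hy hsol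
  set c := MulAut.conj y with hcdef
  set σ : MulAut K := ((c : G ≃* G).subgroupMap K).trans (MulEquiv.subgroupCongr hc) with hσdef
  have hσap : ∀ a : K, (σ a : G) = c a := fun _ => rfl
  have hσ3 : σ ^ 3 = 1 := MulEquiv.ext fun a => Subtype.ext (by
    have h := DFunLike.congr_fun (show c ^ 3 = 1 by rw [hcdef, ← map_pow, hy, map_one]) (a : G)
    rw [pow_three, MulAut.mul_apply, MulAut.mul_apply, MulAut.one_apply] at h
    rw [pow_three, MulAut.mul_apply, MulAut.mul_apply, hσap, hσap, hσap, h]
    rfl)
  set U₀ := σ.toMonoidHom.eqLocus (MonoidHom.id K) with hU₀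
  have hU₀sol : Group.IsSolvable U₀ := by
    refine solvable_of_injective_into hsol (K.subtype.comp U₀.subtype)
      (K.subtype_injective.comp U₀.subtype_injective) fun a => mem_centralizer_iff.2 fun z hz => ?_
    rw [Set.mem_singleton_iff] at hz
    subst hz
    have : c ((a : K) : G) = (a : K) := (hσap _).symm.trans (congrArg Subtype.val a.2)
    rw [hcdef, MulAut.conj_apply] at this
    exact mul_inv_eq_iff_eq_mul.1 this
  have hna : ¬ IsMulCommutative (K ⧸ center K) := fun h => by
    haveI : Group.IsSolvable (center K) := Group.isSolvable_of_comm fun a b => Subtype.ext (mem_center_iff.1 b.2 a)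
    haveI : Group.IsSolvable (K ⧸ center K) := Group.isSolvable_of_comm fun a b => h.is_comm.comm a b
    exact Cfsg.Lib.Components.comp_not_isSolvable hK
      (Group.isSolvable_of_ker_le_range (center K).subtype (QuotientGroup.mk' (center K)) (by simp))
  have h3q : ¬ 3 ∣ Nat.card (K ⧸ center K) := fun h => h3 (h.trans (card_quotient_dvd_card _))
  obtain ⟨F, iF, iF', m, Q, ⟨e⟩⟩ := iso_of_coprime_three hna h3q
  obtain ⟨τ, hτ⟩ := Cfsg.Lib.HallHigman.exists_quotient_aut σ (center K)
    (Cfsg.Lib.HallHigman.map_eq_of_char σ _)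
  have hτ1 : ∀ a : K, τ (QuotientGroup.mk a) = QuotientGroup.mk (σ a) := fun a => by
    have := hτ 1 a
    rwa [pow_one, pow_one] at this
  have hτ3 : τ ^ 3 = 1 := MulEquiv.ext fun t => by
    obtain ⟨a, rfl⟩ := QuotientGroup.mk_surjective t
    rw [hτ, hσ3]; rfl
  set φ : MulAut ↥(Cfsg.Sz F m) := (e.symm.trans τ).trans e with hφ
  have hφ3 : φ ^ 3 = 1 := MulEquiv.ext fun x => by
    have h := DFunLike.congr_fun hτ3 (e.symm x)
    rw [pow_three, MulAut.mul_apply, MulAut.mul_apply, MulAut.one_apply] at h
    rw [pow_three, MulAut.mul_apply, MulAut.mul_apply]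
    simp only [hφ, MulEquiv.trans_apply, MulEquiv.symm_apply_apply]
    rw [h, MulEquiv.apply_symm_apply, MulAut.one_apply]
  have hφ1 : φ ≠ 1 := by
    intro h1
    have hcen : ∀ a : K, a⁻¹ * σ a ∈ center K := fun a => by
      refine QuotientGroup.eq.1 ?_
      have := DFunLike.congr_fun h1 (e (QuotientGroup.mk a))
      rw [hφ, MulEquiv.trans_apply, MulEquiv.trans_apply, MulEquiv.symm_apply_apply, MulAut.one_apply,
        e.injective.eq_iff, hτ1] at this
      exact this.symm
    let χ : K →* center K := MonoidHom.mk' (fun a => ⟨a⁻¹ * σ a, hcen a⟩) fun a b => Subtype.ext (by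
      show (a * b)⁻¹ * σ (a * b) = a⁻¹ * σ a * (b⁻¹ * σ b)
      rw [map_mul, mul_inv_rev, mul_assoc, ← mul_assoc a⁻¹, ← mul_assoc, mem_center_iff.1 (hcen a) b⁻¹,
        mul_assoc])
    have hker : χ.ker = ⊤ := top_le_iff.1 (le_of_eq_of_le (Cfsg.Lib.Components.qs_commutator_top hK.2).symm
      ((Subgroup.commutator_le).2 fun a _ b _ => by
        rw [MonoidHom.mem_ker, map_commutatorElement, commutatorElement_eq_one_iff_commute]
        exact Subtype.ext (mem_center_iff.1 (χ a).2 (χ b)).symm))
    refine Cfsg.Lib.Components.comp_not_isSolvable hK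
      (solvable_of_injective_into hsol K.subtype K.subtype_injective fun a => mem_centralizer_iff.2 fun z hz => ?_)
    rw [Set.mem_singleton_iff] at hz
    subst hz
    have h0 : χ a = 1 := MonoidHom.mem_ker.1 (hker ▸ mem_top a)
    have h : a⁻¹ * σ a = 1 := congrArg Subtype.val h0
    have h' : c (a : G) = a := by
      rw [← hσap]; exact congrArg Subtype.val (inv_mul_eq_one.1 h).symm
    rw [hcdef, MulAut.conj_apply] at h'
    exact mul_inv_eq_iff_eq_mul.1 h'
  obtain ⟨ζ, hζ3, hζ1, c₀, hc₀⟩ := exists_field_conj Q hφ3 hφ1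
  set W := U₀.map ((MulAut.conj c₀⁻¹).toMonoidHom.comp (e.toMonoidHom.comp (QuotientGroup.mk' (center K)))) with hW
  haveI : Group.IsSolvable W := Group.isSolvable_of_surjective (f := MonoidHom.subgroupMap _ U₀) (MonoidHom.subgroupMap_surjective _ U₀)
  have hm : m = 1 := eq_eight Q hζ3 hζ1 (U := W) inferInstance fun x hx => by
    have h := hc₀ x hx
    obtain ⟨a, ha⟩ := QuotientGroup.mk_surjective (e.symm (c₀ * x * c₀⁻¹))
    have hcoset : a⁻¹ * σ a ∈ center K := by
      refine QuotientGroup.eq.1 ?_
      rw [← hτ1, ha]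
      have := congrArg e.symm h
      rw [hφ, MulEquiv.trans_apply, MulEquiv.trans_apply, MulEquiv.symm_apply_apply] at this
      exact this.symm
    obtain ⟨f, hf, haf⟩ := exists_fixed_rep hσ3 (center K)
      (fun z hz => (Cfsg.Lib.HallHigman.map_eq_of_char σ (center K)).le (mem_map_of_mem _ hz))
      (fun h => h3 (h.trans (card_subgroup_dvd_card _))) hcoset
    refine ⟨f, hf, ?_⟩
    show MulAut.conj c₀⁻¹ (e (QuotientGroup.mk f)) = x
    rw [← show (QuotientGroup.mk a : K ⧸ center K) = QuotientGroup.mk f from QuotientGroup.eq.2 haf, ha,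
      MulEquiv.apply_symm_apply, MulAut.conj_apply]
    group
  subst hm
  exact ⟨F, iF, iF', Q, ⟨e⟩⟩

/-- With trivial `O_2` the component is simple. -/
theorem component_simple {K : Subgroup G} (hK : Cfsg.IsComponent K) {F : Type} [Field F] [Fintype F]
    (Q : Cfsg.Lib.Suz.Par F 1) (e : K ⧸ center K ≃* ↥(Cfsg.Sz F 1)) (hO : Cfsg.pCore 2 G = ⊥) :
    IsSimpleGroup K := by
  haveI := hK.2.2
  set π := e.toMonoidHom.comp (QuotientGroup.mk' (center K)) with hπ
  have hker : π.ker = center K := by
    rw [hπ, ← MonoidHom.comap_ker, (MonoidHom.ker_eq_bot_iff _).2 e.injective, MonoidHom.comap_bot,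
      QuotientGroup.ker_mk']
  have hstem : Cfsg.IsStemExtension π := by
    refine ⟨e.surjective.comp (QuotientGroup.mk'_surjective _), hker.le, ?_⟩
    rw [_root_.commutator_def, Cfsg.Lib.Components.qs_commutator_top hK.2]
    exact le_top
  obtain ⟨χ, hχ⟩ := Cfsg.Lib.Suz.Eight.kernel_image Q hstem
  have hp : IsPGroup 2 (Multiplicative (ZMod 2 × ZMod 2)) := IsPGroup.of_card (n := 2) (by
    rw [Nat.card_congr Multiplicative.toAdd, Nat.card_prod, Nat.card_zmod]; rfl)
  have hZ : IsPGroup 2 (center K) := (hp.of_surjective χ hχ).of_equiv (MulEquiv.subgroupCongr hker)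
  have hsub : ((center K).map K.subtype).IsSubnormal :=
    Cfsg.Lib.Components.isSubnormal_map_subtype hK.1
      (Subgroup.Normal.isSubnormal (inferInstance : (center K).Normal))
  have hle := Cfsg.Lib.Components.le_pCore_of_subnormal hsub (hZ.map K.subtype)
  rw [hO, le_bot_iff, Subgroup.map_eq_bot_iff_of_injective _ K.subtype_injective] at hle
  haveI : Nontrivial K := Cfsg.Lib.Components.qs_nontrivial hK.2
  exact ((QuotientGroup.quotientMulEquivOfEq hle).trans QuotientGroup.quotientBot).symm.isSimpleGroup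

end Cfsg.Lib.ThreePrime
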