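import Cfsg.Agent.ThreePrime.Solvable

/-!
Fixed-point-free symmetric groups of degree three of automorphisms of a group of order prime to three.
-/

set_option autoImplicit false
set_option linter.style.haveILetI false
set_option linter.unusedSectionVars false

namespace Cfsg.Lib.ThreePrime

open Subgroup

universe u

variable {G : Type u} [Group G] [Finite G]

/-- The fixed points of an element of order three have odd order. -/
theorem odd_card_fixed (Sig : Subgroup (MulAut G)) (h6 : Nat.card Sig = 6)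
    (hfpf : ∀ g : G, (∀ σ ∈ Sig, σ g = g) → g = 1) {σ : MulAut G} (hσ : σ ∈ Sig) (ho : orderOf σ = 3) :
    Odd (Nat.card (σ.toMonoidHom.eqLocus (MonoidHom.id G))) := by
  haveI : Fact (Nat.Prime 2) := ⟨Nat.prime_two⟩
  haveI : Finite Sig := Nat.finite_of_card_ne_zero (by omega)
  set s : Sig := ⟨σ, hσ⟩ with hs
  have hso : orderOf s = 3 := by rw [← Subgroup.orderOf_coe]; exact ho
  obtain ⟨t, ht⟩ := exists_prime_orderOf_dvd_card' (G := Sig) 2 (by rw [h6]; decide)
  have hidx : (zpowers s).index = 2 := by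
    have := (zpowers s).card_mul_index
    rw [Nat.card_zpowers, hso, h6] at this
    omega
  haveI : (zpowers s).Normal := Subgroup.normal_of_index_eq_two hidx
  have hconj : t⁻¹ * s * t ∈ zpowers s := by
    have := (inferInstance : (zpowers s).Normal).conj_mem s (mem_zpowers s) t⁻¹
    rwa [inv_inv] at this
  obtain ⟨k, hk⟩ := mem_zpowers_iff.1 hconj
  have hgen : zpowers s ⊔ zpowers t = ⊤ := by
    have h1 : 3 ∣ Nat.card ↥(zpowers s ⊔ zpowers t) := by
      have := Subgroup.card_dvd_of_le (le_sup_left : zpowers s ≤ zpowers s ⊔ zpowers t)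
      rwa [Nat.card_zpowers, hso] at this
    have h2 : 2 ∣ Nat.card ↥(zpowers s ⊔ zpowers t) := by
      have := Subgroup.card_dvd_of_le (le_sup_right : zpowers t ≤ zpowers s ⊔ zpowers t)
      rwa [Nat.card_zpowers, ht] at this
    refine Subgroup.eq_top_of_le_card _ ?_
    rw [h6]
    exact Nat.le_of_dvd Nat.card_pos (Nat.Coprime.mul_dvd_of_dvd_of_dvd (by decide : Nat.Coprime 2 3) h2 h1)
  set C := σ.toMonoidHom.eqLocus (MonoidHom.id G) with hC
  have hfix : ∀ c : C, σ (c : G) = c := fun c => c.2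
  set τ : MulAut G := (t : MulAut G) with hτ
  have hkey : σ * τ = τ * σ ^ k := by
    have := congrArg Subtype.val hk
    rw [SubgroupClass.coe_zpow, Subgroup.coe_mul, Subgroup.coe_mul, InvMemClass.coe_inv] at this
    rw [this, ← mul_assoc, ← mul_assoc, mul_inv_cancel, one_mul]
  have hmap : ∀ c : C, τ (c : G) ∈ C := fun c => by
    show σ (τ c) = τ c
    rw [← MulAut.mul_apply, hkey, MulAut.mul_apply]
    congr 1
    have : σ ∈ MulAction.stabilizer (MulAut G) (c : G) := hfix c
    exact zpow_mem this k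
  have hττ : ∀ g : G, τ (τ g) = g := fun g => by
    have h := congrArg Subtype.val (ht ▸ pow_orderOf_eq_one t)
    rw [SubgroupClass.coe_pow, pow_two] at h
    exact DFunLike.congr_fun h g
  let φ : C →* C := (τ.toMonoidHom.comp C.subtype).codRestrict C hmap
  have hinv : Function.Involutive φ := fun c => Subtype.ext (hττ c)
  refine MonoidHom.FixedPointFree.odd_card_of_involutive (φ := φ) (fun c hc => Subtype.ext ?_) hinv
  refine hfpf c fun ρ hρ => ?_
  have hle : (⊤ : Subgroup Sig) ≤ (MulAction.stabilizer (MulAut G) (c : G)).subgroupOf Sig := by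
    rw [← hgen]
    exact sup_le (zpowers_le.2 (hfix c)) (zpowers_le.2 (congrArg Subtype.val hc))
  exact hle (mem_top ⟨ρ, hρ⟩)

theorem orderOf_odd_fixed (Sig : Subgroup (MulAut G)) (h6 : Nat.card Sig = 6)
    (hfpf : ∀ g : G, (∀ σ ∈ Sig, σ g = g) → g = 1) {σ : MulAut G} (hσ : σ ∈ Sig) (ho : orderOf σ = 3)
    (g : G) (hg : σ g = g) : Odd (orderOf g) := by
  refine (odd_card_fixed Sig h6 hfpf hσ ho).of_dvd_nat ?_
  have : orderOf (⟨g, hg⟩ : σ.toMonoidHom.eqLocus (MonoidHom.id G)) = orderOf g := Subgroup.orderOf_mk g hg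
  rw [← this]
  exact orderOf_dvd_natCard _

theorem fixed_supplement (h3 : ¬ 3 ∣ Nat.card G) {σ : MulAut G} (hσ : σ ^ 3 = 1)
    (hodd : ∀ g, σ g = g → Odd (orderOf g)) :
    Cfsg.pPrimePCore 2 G ⊔ Subgroup.closure {g : G | σ g = g} = ⊤ := by
  set W := Cfsg.pPrimePCore 2 G with hW
  haveI : W.Normal := by rw [hW]; unfold Cfsg.pPrimePCore; infer_instance
  have h := trivial_mod_pPrimePCore h3 hσ hodd
  refine eq_top_iff.2 fun g _ => ?_
  have hg : g⁻¹ * σ g ∈ W := by
    have := (inferInstance : W.Normal).conj_mem _ (h g) g⁻¹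
    simpa [mul_assoc] using this
  obtain ⟨f, hf, hgf⟩ := exists_fixed_rep hσ W
    (fun a ha => by have := W.mul_mem (h a) ha; rwa [inv_mul_cancel_right] at this)
    (fun h => h3 (h.trans (card_subgroup_dvd_card W))) hg
  have : g = f * (g⁻¹ * f)⁻¹ := by group
  rw [this]
  exact mul_mem (mem_sup_right (subset_closure hf)) (mem_sup_left (inv_mem hgf))

theorem odd_index (h3 : ¬ 3 ∣ Nat.card G) {σ : MulAut G} (hσ : σ ^ 3 = 1)
    (hodd : ∀ g, σ g = g → Odd (orderOf g)) : ¬ 2 ∣ (Cfsg.pPrimePCore 2 G).index := by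
  set W := Cfsg.pPrimePCore 2 G with hW
  haveI : W.Normal := by rw [hW]; unfold Cfsg.pPrimePCore; infer_instance
  intro h2
  rw [index_eq_card] at h2
  haveI : Fact (Nat.Prime 2) := ⟨Nat.prime_two⟩
  obtain ⟨t, ht⟩ := exists_prime_orderOf_dvd_card' (G := G ⧸ W) 2 h2
  obtain ⟨g, rfl⟩ := QuotientGroup.mk_surjective t
  have h := trivial_mod_pPrimePCore h3 hσ hodd
  have hg : g⁻¹ * σ g ∈ W := by
    have := (inferInstance : W.Normal).conj_mem _ (h g) g⁻¹
    simpa [mul_assoc] using this
  obtain ⟨f, hf, hgf⟩ := exists_fixed_rep hσ W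
    (fun a ha => by have := W.mul_mem (h a) ha; rwa [inv_mul_cancel_right] at this)
    (fun h => h3 (h.trans (card_subgroup_dvd_card W))) hg
  rw [show (QuotientGroup.mk g : G ⧸ W) = QuotientGroup.mk' W f from QuotientGroup.eq.2 hgf] at ht
  have := (hodd f hf).of_dvd_nat (orderOf_map_dvd (QuotientGroup.mk' W) f)
  rw [ht] at this
  exact absurd this (by decide)

end Cfsg.Lib.ThreePrime
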