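import Cfsg.Agent.ThreePrime.Shult
import Cfsg.Agent.Coprime.Fitting
import Cfsg.Agent.Components.GenFitting
import Cfsg.Agent.HallHigman.Invariant

/-!
A coprime automorphism of order three of a solvable group, with fixed points of odd order, is trivial
modulo `O_{2',2}`.
-/

set_option linter.style.haveILetI false
set_option linter.unusedSectionVars false

namespace Cfsg.Lib.ThreePrime

open Module Subgroup Cfsg.Lib.HallHigman
open scoped commutatorElement IsMulCommutative

universe u v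

section Rep

variable {G : Type u} [Group G] [Finite G] {p : ℕ} [Fact p.Prime]

/-- The representation on the Frattini section of the `q`-core, extended by the automorphism. -/
theorem section_rep_on (σ : MulAut G) {k : ℕ} (hσ : σ ^ p ^ (k + 1) = 1) (q : ℕ) [Fact q.Prime]
    (hfpf : ∀ g ∈ Cfsg.pCore q G, σ g = g → g = 1) :
    ∃ (d : ℕ) (Γ : Type u) (_ : Group Γ) (_ : Finite Γ)
      (ρ : Γ →* Module.End (AlgebraicClosure (ZMod q)) (Fin d → AlgebraicClosure (ZMod q)))
      (ρu : G →* Γ) (x : Γ), Function.Injective ρ ∧ x ^ p ^ (k + 1) = 1 ∧ (∀ v, ρ x v = v → v = 0) ∧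
      (∀ (i : ℕ) g, x ^ i * ρu g * (x ^ i)⁻¹ = ρu ((σ ^ i) g)) ∧
      ∀ g, ρu g = 1 ↔ ∀ a ∈ Cfsg.pCore q G,
        g * a * g⁻¹ * a⁻¹ ∈ (frattini (Cfsg.pCore q G)).map (Cfsg.pCore q G).subtype := by
  classical
  set Q := Cfsg.pCore q G with hQdef
  have hQp : IsPGroup q Q := Cfsg.Lib.Components.isPGroup_pCore q
  haveI hQc : Q.Characteristic := Cfsg.Lib.Components.pCore_characteristic
  set Φ := (frattini Q).map Q.subtype with hΦ
  haveI : Φ.Normal := ConjAct.normal_of_characteristic_of_normal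
  have hσQ : Q.map (σ : G ≃* G).toMonoidHom = Q := map_eq_of_char σ Q
  have hσΦ : Φ.map (σ : G ≃* G).toMonoidHom = Φ := by
    let σQ : Q ≃* Q := ((σ : G ≃* G).subgroupMap Q).trans (MulEquiv.subgroupCongr hσQ)
    have h1 := characteristic_iff_map_eq.mp (frattini_characteristic (G := Q)) σQ
    conv_rhs => rw [hΦ, ← h1, map_map]
    rw [hΦ, map_map]
    congr 1
  obtain ⟨τ, hτ⟩ := exists_quotient_aut σ Φ hσΦ
  have hτN : τ ^ p ^ (k + 1) = 1 := MulEquiv.ext fun t => by
    obtain ⟨g, rfl⟩ := QuotientGroup.mk_surjective t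
    rw [hτ, hσ]; rfl
  set π := QuotientGroup.mk' Φ with hπ
  have hτ1 : ∀ g : G, τ (π g) = π (σ g) := fun g => by
    have := hτ 1 g
    rwa [pow_one, pow_one] at this
  set A := Q.map π with hA
  haveI : A.Normal := Subgroup.Normal.map inferInstance _ (QuotientGroup.mk'_surjective Φ)
  have hAmem : ∀ a ∈ Q, ∀ b ∈ Q, π a * π b = π b * π a := by
    intro a ha b hb
    rw [← map_mul, ← map_mul]
    refine QuotientGroup.eq.2 ?_
    have h := (Subgroup.Normal.quotient_commutative_iff_commutator_le (N := frattini Q)).2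
      (Cfsg.Lib.PGroups.commutator_le_frattini hQp)
    have h2 : (QuotientGroup.mk (⟨a, ha⟩ * ⟨b, hb⟩ : Q) : Q ⧸ frattini Q) = QuotientGroup.mk (⟨b, hb⟩ * ⟨a, ha⟩) := by
      rw [QuotientGroup.mk_mul, QuotientGroup.mk_mul]; exact h.is_comm.comm _ _
    exact ⟨_, QuotientGroup.eq.1 h2, rfl⟩
  haveI hAc : IsMulCommutative A := ⟨⟨by
    rintro ⟨_, a, ha, rfl⟩ ⟨_, b, hb, rfl⟩; exact Subtype.ext (hAmem a ha b hb)⟩⟩
  have hApow : ∀ w : A, w ^ q = 1 := by
    rintro ⟨_, a, ha, rfl⟩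
    refine Subtype.ext ?_
    show π a ^ q = 1
    rw [← map_pow]
    exact (QuotientGroup.eq_one_iff _).2 ⟨⟨a, ha⟩ ^ q, Cfsg.Lib.PGroups.pow_mem_frattini hQp _, rfl⟩
  haveI : Module (ZMod q) (Additive A) := AddCommGroup.zmodModule fun w => by
    apply Additive.toMul.injective
    rw [toMul_nsmul, hApow]; rfl
  haveI : Finite (Additive A) := Finite.of_equiv A Additive.ofMul
  have hτA : A.map (τ : G ⧸ Φ ≃* G ⧸ Φ).toMonoidHom = A := by
    rw [hA, map_map, show (τ : G ⧸ Φ ≃* G ⧸ Φ).toMonoidHom.comp π = π.comp (σ : G ≃* G).toMonoidHom from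
      MonoidHom.ext hτ1, ← map_map, hσQ]
  have hτfix : ∀ t ∈ A, τ t = t → t = 1 := by
    rintro _ ⟨a, ha, rfl⟩ hfix
    let σQ : MulAut Q := ((σ : G ≃* G).subgroupMap Q).trans (MulEquiv.subgroupCongr hσQ)
    have hσQi : ∀ (i : ℕ) (w : Q), (((σQ ^ i) w : Q) : G) = (σ ^ i) (w : G) := by
      intro i
      induction i with
      | zero => intro w; rfl
      | succ i ih => intro w; rw [pow_succ', MulAut.mul_apply, pow_succ', MulAut.mul_apply, ← ih]; rfl
    refine image_eq_one_of_fixed (p := p) σQ (n := k + 1)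
      (MulEquiv.ext fun w => Subtype.ext (by rw [hσQi, hσ]; rfl))
      (fun w hw => Subtype.ext (hfpf w w.2 (congrArg Subtype.val hw))) ⊤ (fun _ _ => mem_top _)
      (π.comp Q.subtype) τ (fun w _ => (hτ1 w).symm) ⟨a, ha⟩ (mem_top _) hfix
  let τA : MulAut A := ((τ : G ⧸ Φ ≃* G ⧸ Φ).subgroupMap A).trans (MulEquiv.subgroupCongr hτA)
  have hτA1 : ∀ w : A, ((τA w : A) : G ⧸ Φ) = τ w := fun w => rfl
  have hτAi : ∀ (i : ℕ) (w : A), (((τA ^ i) w : A) : G ⧸ Φ) = (τ ^ i) w := by
    intro i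
    induction i with
    | zero => intro w; rfl
    | succ i ih => intro w; rw [pow_succ', MulAut.mul_apply, hτA1, ih, pow_succ', MulAut.mul_apply]
  let c : G →* MulAut A := (MulAut.conjNormal (H := A)).comp π
  have hc : ∀ (g : G) (w : A), ((c g w : A) : G ⧸ Φ) = π g * w * (π g)⁻¹ := fun g w => MulAut.conjNormal_apply _ _
  let ρu : G →* (Module.End (ZMod q) (Additive A))ˣ := (mulAutToEnd q A).toHomUnits.comp c
  let x : (Module.End (ZMod q) (Additive A))ˣ := (mulAutToEnd q A).toHomUnits τA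
  haveI : Finite (Module.End (ZMod q) (Additive A)) := DFunLike.finite _
  haveI : Finite (Module.End (ZMod q) (Additive A))ˣ := Finite.of_injective _ Units.val_injective
  have hτc : ∀ g, τA * c g * τA⁻¹ = c (σ g) := fun g => by
    rw [mul_inv_eq_iff_eq_mul]
    refine MulEquiv.ext fun w => Subtype.ext ?_
    rw [MulAut.mul_apply, MulAut.mul_apply, hτA1, hc, hc, hτA1, map_mul, map_mul, map_inv, hτ1]
  have hxρ : ∀ g, x * ρu g * x⁻¹ = ρu (σ g) := fun g => by
    show (mulAutToEnd q A).toHomUnits τA * (mulAutToEnd q A).toHomUnits (c g) *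
      ((mulAutToEnd q A).toHomUnits τA)⁻¹ = (mulAutToEnd q A).toHomUnits (c (σ g))
    rw [← map_inv, ← map_mul, ← map_mul, hτc]
  have hxi : ∀ (i : ℕ) g, x ^ i * ρu g * (x ^ i)⁻¹ = ρu ((σ ^ i) g) := by
    intro i
    induction i with
    | zero => intro g; rw [pow_zero, one_mul, inv_one, mul_one]; rfl
    | succ i ih =>
      intro g
      rw [pow_succ' σ, MulAut.mul_apply, ← hxρ, ← ih, pow_succ']
      group
  have hxN : x ^ p ^ (k + 1) = 1 := by
    show (mulAutToEnd q A).toHomUnits τA ^ p ^ (k + 1) = 1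
    rw [← map_pow, show τA ^ p ^ (k + 1) = 1 from MulEquiv.ext fun w => Subtype.ext (by rw [hτAi, hτN]; rfl), map_one]
  obtain ⟨Ψ, hΨ⟩ := exists_base_change (F := ZMod q) (W := Additive A)
  let ρK : (Module.End (ZMod q) (Additive A))ˣ →*
      Module.End (AlgebraicClosure (ZMod q)) (Fin (Module.finrank (ZMod q) (Additive A)) → AlgebraicClosure (ZMod q)) :=
    Ψ.toMonoidHom.comp (Units.coeHom _)
  have hfix : ∀ v, ρK x v = v → v = 0 := by
    intro v hv
    set f : Module.End (ZMod q) (Additive A) := (x : Module.End (ZMod q) (Additive A)) - 1 with hf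
    have hinj : Function.Injective f := by
      refine (injective_iff_map_eq_zero f).2 fun w hw => ?_
      rw [hf, LinearMap.sub_apply, Module.End.one_apply, sub_eq_zero] at hw
      have h1 : τA (Additive.toMul w) = Additive.toMul w := congrArg Additive.toMul hw
      have h2 := hτfix _ (Additive.toMul w).2 ((hτA1 _).symm.trans (congrArg Subtype.val h1))
      exact Additive.toMul.injective (Subtype.ext h2)
    have hu : IsUnit f := (Module.End.isUnit_iff f).2 ⟨hinj, (LinearMap.injective_iff_surjective).1 hinj⟩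
    have h2 := ((Module.End.isUnit_iff _).1 (hu.map Ψ)).1
    refine h2 (a₁ := v) (a₂ := 0) ?_
    rw [map_zero, hf, map_sub, map_one, LinearMap.sub_apply, Module.End.one_apply]
    exact sub_eq_zero.2 hv
  refine ⟨_, _, _, inferInstance, ρK, ρu, x, hΨ.comp Units.val_injective, hxN, hfix, hxi, fun g => ?_⟩
  refine ⟨fun h1 a ha => ?_, fun h => Units.ext (LinearMap.ext fun w => ?_)⟩
  · have h2 : c g ⟨π a, a, ha, rfl⟩ = ⟨π a, a, ha, rfl⟩ := congrArg Additive.toMul
      (LinearMap.congr_fun (congrArg Units.val h1) (Additive.ofMul (⟨π a, a, ha, rfl⟩ : A)))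
    have h3 := congrArg Subtype.val h2
    rw [hc] at h3
    rw [← QuotientGroup.eq_one_iff]
    show π (g * a * g⁻¹ * a⁻¹) = 1
    rw [map_mul, map_mul, map_mul, map_inv, h3, map_inv, mul_inv_cancel]
  · obtain ⟨t', rfl⟩ : ∃ b : A, Additive.ofMul b = w := ⟨Additive.toMul w, rfl⟩
    obtain ⟨t, a, ha, rfl⟩ := t'
    show Additive.ofMul (c g ⟨π a, a, ha, rfl⟩) = Additive.ofMul (⟨π a, a, ha, rfl⟩ : A)
    congr 1
    refine Subtype.ext ?_
    rw [hc, ← map_inv, ← map_mul, ← map_mul, ← mul_inv_eq_one, ← map_inv, ← map_mul]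
    exact (QuotientGroup.eq_one_iff _).2 (h a ha)

end Rep

/-- An automorphism of order three with fixed points of odd order is trivial modulo `O_2`. -/
theorem trivial_mod_pCore {X : Type u} [Group X] [Finite X] [Group.IsSolvable X] (h3 : ¬ 3 ∣ Nat.card X)
    (hO : Cfsg.pPrimeCore 2 X = ⊥) (σ : MulAut X) (hσ : σ ^ 3 = 1)
    (hodd : ∀ g, σ g = g → Odd (orderOf g)) : ∀ g, σ g * g⁻¹ ∈ Cfsg.pCore 2 X := by
  classical
  haveI : Fact (Nat.Prime 2) := ⟨Nat.prime_two⟩
  haveI : Fact (Nat.Prime 3) := ⟨Nat.prime_three⟩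
  set P := Cfsg.pCore 2 X with hP
  haveI hPn : P.Normal := Cfsg.Lib.Components.pCore_normal' 2
  have hP2 : IsPGroup 2 P := Cfsg.Lib.Components.isPGroup_pCore 2
  have hPfree : ∀ g ∈ P, σ g = g → g = 1 := by
    intro g hg hfix
    obtain ⟨j, hj⟩ := hP2 ⟨g, hg⟩
    have hd : orderOf g ∣ 2 ^ j := orderOf_dvd_of_pow_eq_one (congrArg Subtype.val hj)
    exact orderOf_eq_one_iff.1 (Nat.eq_one_of_dvd_coprimes
      (Nat.Coprime.pow_right j (Nat.coprime_two_right.2 (hodd g hfix))) dvd_rfl hd)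
  by_cases hPtop : P = ⊤
  · intro g
    rw [hPtop]
    exact mem_top _
  obtain ⟨d, Γ, _, _, ρ, ρu, x, hinj, hx, hfix, hxi, hker⟩ :=
    section_rep_on (p := 3) σ (k := 0) (by simpa using hσ) 2 hPfree
  have hx3 : x ^ 3 = 1 := by simpa using hx
  have hxg : ∀ g, x * ρu g * x⁻¹ = ρu (σ g) := fun g => by simpa using hxi 1 g
  -- the kernel
  have hk2 : IsPGroup 2 ρu.ker := by
    refine (IsPGroup.iff_orderOf (p := 2)).2 fun g => ?_
    obtain ⟨a, b, hb, hab⟩ := Nat.exists_eq_two_pow_mul_odd (orderOf_pos (g : X)).ne'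
    refine ⟨a, ?_⟩
    set h := (g : X) ^ 2 ^ a
    have hho : orderOf h ∣ b := orderOf_dvd_of_pow_eq_one (by rw [← pow_mul, ← hab, pow_orderOf_eq_one])
    have hhk : h ∈ ρu.ker := pow_mem g.2 _
    have hcop : (orderOf h).Coprime 2 := (Nat.coprime_two_right.2 hb).coprime_dvd_left hho
    have hc : h ∈ centralizer (P : Set X) := by
      refine Cfsg.Lib.Coprime.le_centralizer_of_frattini (A := zpowers h) (K := P)
        le_normalizer_of_normal ?_ (fun c hc y hy => ?_) (mem_zpowers h)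
      · obtain ⟨j, hj⟩ := IsPGroup.iff_card.1 (hP2.to_subgroup (frattini P))
        rw [Nat.card_zpowers, hj]
        exact hcop.pow_right j
      · obtain ⟨i, rfl⟩ := mem_zpowers_iff.1 hc
        exact (hker _).1 (by rw [map_zpow, MonoidHom.mem_ker.1 hhk, one_zpow]) y hy
    obtain ⟨j, hj⟩ := hP2 ⟨h, Cfsg.Lib.Coprime.centralizer_pCore_le (G := X) 2 hO hc⟩
    have h1 : orderOf h = 1 := Nat.eq_one_of_dvd_coprimes (hcop.pow_right j) dvd_rfl
      (orderOf_dvd_of_pow_eq_one (congrArg Subtype.val hj))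
    have h2 : orderOf (g : X) ∣ 2 ^ a := orderOf_dvd_of_pow_eq_one (orderOf_eq_one_iff.1 h1)
    rw [orderOf_coe] at h2 hab
    exact Nat.dvd_antisymm h2 ⟨b, hab⟩
  have hkerP : ρu.ker ≤ P := Cfsg.Lib.Components.le_pCore hk2
  have hkP : ∀ g ∈ P, ρu g = 1 := fun g hg => (hker g).2 fun a ha => by
    refine ⟨⟨g, hg⟩ * ⟨a, ha⟩ * ⟨g, hg⟩⁻¹ * ⟨a, ha⟩⁻¹, ?_, rfl⟩
    exact Cfsg.Lib.PGroups.commutator_le_frattini hP2 (commutator_mem_commutator (mem_top _) (mem_top _))
  -- the image
  set Y := ρu.range with hY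
  haveI : Group.IsSolvable Y := Group.isSolvable_of_surjective (f := ρu.rangeRestrict) ρu.rangeRestrict_surjective
  have hxY : x ∈ normalizer (Y : Set Γ) := mem_normalizer_of_conj_le (by
    rintro _ ⟨g, rfl⟩; exact ⟨σ g, (hxg g).symm⟩)
  let c : MulAut Y := Y.normalizerMonoidHom ⟨x, hxY⟩
  have hc : ∀ y : Y, ((c y : Y) : Γ) = x * y * x⁻¹ := fun y => rfl
  have h3Y : ¬ 3 ∣ Nat.card Y := fun h =>
    h3 (h.trans (Subgroup.card_range_dvd ρu))
  -- no normal 2-subgroup
  have hY2 : Cfsg.pCore 2 Y = ⊥ := by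
    haveI := Cfsg.Lib.Components.pCore_normal' (G := Y) 2
    set N := (Cfsg.pCore 2 Y).comap ρu.rangeRestrict with hN
    have hN2 : IsPGroup 2 N := (Cfsg.Lib.Components.isPGroup_pCore (G := Y) 2).comap_of_ker_isPGroup _ (by
      rwa [MonoidHom.ker_rangeRestrict])
    rw [eq_bot_iff]
    intro y hy
    obtain ⟨g, rfl⟩ := ρu.rangeRestrict_surjective y
    exact mem_bot.2 (Subtype.ext (hkP g (Cfsg.Lib.Components.le_pCore hN2 hy)))
  haveI : Nontrivial (Fin d → AlgebraicClosure (ZMod 2)) := by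
    by_contra hnt
    rw [not_nontrivial_iff_subsingleton] at hnt
    refine hPtop (eq_top_iff.2 fun g _ => hkerP ?_)
    rw [MonoidHom.mem_ker]
    exact hinj (LinearMap.ext fun v => Subsingleton.elim _ _)
  haveI : CharP (AlgebraicClosure (ZMod 2)) 2 :=
    charP_of_injective_algebraMap (algebraMap (ZMod 2) (AlgebraicClosure (ZMod 2))).injective 2
  have hcast : ∀ i : ℕ, i.Prime → i ≠ 2 → (i : AlgebraicClosure (ZMod 2)) ≠ 0 := fun i hi hne h =>
    hne ((Nat.prime_dvd_prime_iff_eq Nat.prime_two hi).1 ((CharP.cast_eq_zero_iff _ 2 i).1 h)).symm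
  have hcF : ∀ f ∈ Cfsg.fittingSubgroup Y, c f = f := by
    have hle : Cfsg.fittingSubgroup Y ≤ c.toMonoidHom.eqLocus (MonoidHom.id Y) := by
      rw [Cfsg.Lib.Components.fitting_eq_iSup_pCore]
      refine iSup_le fun r f hf => ?_
      haveI := Fact.mk r.2
      by_cases hr2 : r.1 = 2
      · rw [hr2, hY2, mem_bot] at hf
        subst hf
        exact map_one c.toMonoidHom
      set T := (Cfsg.pCore r.1 Y).map Y.subtype with hT
      have hTx : x ∈ normalizer (T : Set Γ) := mem_normalizer_of_conj_le (by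
        rintro _ ⟨y, hy, rfl⟩
        haveI : (Cfsg.pCore r.1 Y).Characteristic := Cfsg.Lib.Components.pCore_characteristic
        exact ⟨c y, (characteristic_iff_map_eq.mp inferInstance c).le (mem_map_of_mem _ hy), hc y⟩)
      by_cases hrp : r.1 = 3
      · have hbot : Cfsg.pCore r.1 Y = ⊥ :=
          Cfsg.Lib.Components.pCore_eq_bot_of_not_dvd (by rw [hrp]; exact h3Y)
        rw [hbot, mem_bot] at hf
        subst hf
        exact map_one c.toMonoidHom
      have key := shult_core_odd (K := AlgebraicClosure (ZMod 2)) (p := 3) (k := 0) (r := r.1) (by norm_num) hr2 hrp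
        (hcast 3 Nat.prime_three (by norm_num)) (hcast r.1 r.2 hr2) ρ hinj x hx hfix T
        ((Cfsg.Lib.Components.isPGroup_pCore r.1).map Y.subtype) hTx (f : Γ) (mem_map_of_mem _ hf)
      refine Subtype.ext ?_
      show x * (f : Γ) * x⁻¹ = f
      rw [pow_zero, pow_one] at key
      rw [← key, mul_inv_cancel_right]
    exact fun f hf => hle hf
  intro g
  set y := ρu.rangeRestrict g
  set e := y⁻¹ * c y with he
  have heF : e ∈ Cfsg.fittingSubgroup Y := by
    refine Cfsg.Lib.Coprime.centralizer_fitting_le (mem_centralizer_iff.2 fun f hf => ?_)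
    haveI := Cfsg.Lib.Components.fitting_characteristic (G := Y)
    have hyf : y * f * y⁻¹ ∈ Cfsg.fittingSubgroup Y := (inferInstance : (Cfsg.fittingSubgroup Y).Normal).conj_mem f hf y
    have h1 := hcF _ hyf
    rw [map_mul, map_mul, map_inv, hcF f hf] at h1
    calc f * e = y⁻¹ * (y * f * y⁻¹) * c y := by rw [he]; group
      _ = y⁻¹ * (c y * f * (c y)⁻¹) * c y := by rw [h1]
      _ = e * f := by rw [he]; group
  have hce : c y = y * e := by rw [he, mul_inv_cancel_left]
  have hc3 : c (c (c y)) = y := Subtype.ext (by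
    rw [hc, hc, hc]
    calc x * (x * (x * (y : Γ) * x⁻¹) * x⁻¹) * x⁻¹ = x ^ 3 * y * (x ^ 3)⁻¹ := by
          rw [pow_three]; group
      _ = y := by rw [hx3, one_mul, inv_one, mul_one])
  rw [hce, map_mul, map_mul, hce, hcF e heF, map_mul, hcF e heF, hce, mul_assoc, mul_assoc] at hc3
  have he3 : e ^ 3 = 1 := by
    have := mul_left_cancel (hc3.trans (mul_one y).symm)
    rw [pow_succ, pow_two, mul_assoc]
    exact this
  have he1 : e = 1 := orderOf_eq_one_iff.1 (Nat.eq_one_of_dvd_coprimes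
    ((Nat.prime_three.coprime_iff_not_dvd).2 h3Y) (orderOf_dvd_of_pow_eq_one he3) (orderOf_dvd_natCard e))
  refine hkerP ?_
  have hgy : x * ρu g * x⁻¹ = ρu g := by
    have := congrArg Subtype.val hce
    rw [hc, he1, mul_one] at this
    exact this
  rw [MonoidHom.mem_ker, map_mul, map_inv, ← hxg, hgy, mul_inv_cancel]

end Cfsg.Lib.ThreePrime
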