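import Cfsg.Agent.HallHigman.ShultGross
import Cfsg.Agent.HallHigman.ShultGrossChain

/-!
The linear core of the Shult–Gross theorem for odd `r`: an element of `p`-power order without fixed vectors in coprime
characteristic has its element of order `p` centralizing every invariant `r`-subgroup.
-/

set_option linter.style.haveILetI false
set_option linter.unusedSectionVars false

namespace Cfsg.Lib.ThreePrime

open Module Subgroup Cfsg.Lib.HallHigman
open scoped commutatorElement IsMulCommutative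

universe u v w

variable {K : Type u} [Field K] [IsAlgClosed K] {V : Type v} [AddCommGroup V] [Module K V] [FiniteDimensional K V]

/-- No fixed point on the group is needed. -/
theorem shult_core_odd {H : Type w} [Group H] [Finite H] {p k r : ℕ} [Fact p.Prime] [Fact r.Prime] (hp2 : p ≠ 2)
    (hr2' : r ≠ 2) (hrp : r ≠ p) (hpK : (p : K) ≠ 0) (hrK : (r : K) ≠ 0) (ρ : H →* Module.End K V) (hρ : Function.Injective ρ)
    (x : H) (hx : x ^ p ^ (k + 1) = 1) (hfix : ∀ v : V, ρ x v = v → v = 0) (T : Subgroup H) (hT : IsPGroup r T)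
    (hTx : x ∈ normalizer (T : Set H)) :
    ∀ t ∈ T, t * x ^ p ^ k = x ^ p ^ k * t := by
  classical
  have hp : p.Prime := Fact.out
  have hr : r.Prime := Fact.out
  set y := x ^ p ^ k with hy
  set D := zpowers y with hD
  set S := zpowers x with hS
  have hDS : D ≤ S := zpowers_le.2 (pow_mem (mem_zpowers x) _)
  have hDn : S ≤ normalizer (D : Set H) := by
    refine zpowers_le.2 (mem_normalizer_of_conj_le fun z hz => ?_)
    obtain ⟨i, rfl⟩ := mem_zpowers_iff.1 hz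
    refine mem_zpowers_iff.2 ⟨i, ?_⟩
    rw [hy, ← conj_zpow]
    congr 1
    group
  suffices ∀ Q : Subgroup H, Q ≤ T → S ≤ normalizer (Q : Set H) → D ≤ centralizer (Q : Set H) from
    fun t ht => mem_centralizer_iff.1 (this T le_rfl (zpowers_le.2 hTx) (mem_zpowers y)) t ht
  intro Q
  induction Q using WellFoundedLT.induction with
  | ind Q ih =>
  intro hQT hQS
  have hQ : IsPGroup r Q := hT.to_le hQT
  have hcop : (Nat.card D).Coprime (Nat.card Q) := by
    obtain ⟨j, hj⟩ := IsPGroup.iff_card.1 hQ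
    have h1 : Nat.card D ∣ p := by
      rw [Nat.card_zpowers]
      exact orderOf_dvd_of_pow_eq_one (by rw [hy, ← pow_mul, ← pow_succ, hx])
    rw [hj]
    exact Nat.Coprime.coprime_dvd_left h1 (((Nat.coprime_primes hp hr).2 (Ne.symm hrp)).pow_right j)
  haveI : Group.IsNilpotent Q := hQ.isNilpotent
  have hsolQ : Group.IsSolvable Q := inferInstance
  have hDQ : D ≤ normalizer (Q : Set H) := hDS.trans hQS
  have hprop : ∀ M, M ≤ Q → M ≠ Q → S ≤ normalizer (M : Set H) → D ≤ centralizer (M : Set H) :=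
    fun M h1 h2 h3 => ih M (lt_of_le_of_ne h1 h2) (h1.trans hQT) h3
  have habel : ∀ M, M ≤ Q → S ≤ normalizer (M : Set H) → (∀ a ∈ M, ∀ b ∈ M, a * b = b * a) →
      D ≤ centralizer (M : Set H) := by
    intro M h1 h2 h3
    refine zpowers_le.2 (mem_centralizer_iff.2 (abelian_centralizes hp ρ hρ x hx hfix M ?_ (h2 (mem_zpowers x)) h3))
    obtain ⟨m, hm⟩ := IsPGroup.iff_card.1 (hQ.to_le h1)
    rw [hm, Nat.cast_pow]
    exact pow_ne_zero _ hrK
  by_cases hfull : ⁅Q, D⁆ = Q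
  swap
  · have h1 := hprop _ (Cfsg.Lib.Coprime.commutator_le_of_le_normalizer hDQ) hfull (le_normalizer_commutator hQS hDn)
    have h2 : ⁅(⁅Q, D⁆ : Subgroup H), D⁆ = ⊥ := commutator_eq_bot_iff_le_centralizer.2 (le_centralizer_iff.1 h1)
    rw [Cfsg.Lib.Coprime.commutator_commutator_eq hDQ hcop (Or.inr hsolQ)] at h2
    exact le_centralizer_iff.1 (commutator_eq_bot_iff_le_centralizer.1 h2)
  rcases eq_or_ne Q ⊥ with rfl | hQne
  · intro d _
    rw [mem_centralizer_iff]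
    intro z hz
    rw [SetLike.mem_coe, mem_bot] at hz
    rw [hz, one_mul, mul_one]
  haveI : Nontrivial Q := nontrivial_iff_ne_bot _ |>.2 hQne
  set Φ := (frattini Q).map Q.subtype with hΦ
  have hΦQ : Φ ≤ Q := map_subtype_le _
  have hΦne : Φ ≠ Q := by
    intro h
    have h1 : frattini Q = ⊤ := map_injective Q.subtype_injective (by rw [← MonoidHom.range_eq_map, range_subtype]; exact h)
    obtain ⟨M, hM, -⟩ := (eq_top_or_exists_le_coatom (⊥ : Subgroup Q)).resolve_left bot_ne_top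
    exact hM.1 (top_le_iff.1 (h1 ▸ frattini_le_coatom hM))
  have hΦS : S ≤ normalizer (Φ : Set H) := le_normalizer_map_frattini hQS
  have hΦD : D ≤ centralizer (Φ : Set H) := hprop Φ hΦQ hΦne hΦS
  have hΦcen : ∀ a ∈ Φ, ∀ b ∈ Q, a * b = b * a := by
    have h1 : ⁅(⁅D, Φ⁆ : Subgroup H), Q⁆ = ⊥ := by
      rw [commutator_eq_bot_iff_le_centralizer.2 hΦD, commutator_bot_left]
    have h2 : ⁅(⁅Φ, Q⁆ : Subgroup H), D⁆ = ⊥ := by
      rw [commutator_eq_bot_iff_le_centralizer]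
      have hle : ⁅Φ, Q⁆ ≤ Φ := by
        rw [commutator_le]
        intro a ha b hb
        obtain ⟨a', ha', rfl⟩ := ha
        have h := mul_mem ha' ((inferInstance : (frattini Q).Normal).conj_mem _ (inv_mem ha') ⟨b, hb⟩)
        refine ⟨_, h, ?_⟩
        simp [commutatorElement_def, mul_assoc]
      exact hle.trans (le_centralizer_iff.1 hΦD)
    have h3 : ⁅(⁅Q, D⁆ : Subgroup H), Φ⁆ = ⊥ := commutator_commutator_eq_bot_of_rotate h1 h2
    rw [hfull, commutator_eq_bot_iff_le_centralizer] at h3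
    exact fun a ha b hb => mem_centralizer_iff.1 (h3 hb) a ha
  set Z := Q ⊓ centralizer (Q : Set H) with hZdef
  have hmemZ : ∀ a, a ∈ Z ↔ a ∈ Q ∧ ∀ b ∈ Q, a * b = b * a := fun a =>
    ⟨fun h => ⟨h.1, fun b hb => (mem_centralizer_iff.1 h.2 b hb).symm⟩,
      fun h => ⟨h.1, mem_centralizer_iff.2 fun b hb => (h.2 b hb).symm⟩⟩
  have hΦZ : ∀ a ∈ Φ, a ∈ Z := fun a ha => (hmemZ a).2 ⟨hΦQ ha, hΦcen a ha⟩
  haveI hZc : IsMulCommutative Z := ⟨⟨fun a b => Subtype.ext (((hmemZ a).1 a.2).2 b b.2.1)⟩⟩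
  have hZcomm : ∀ a b : Z, a * b = b * a := fun a b => Subtype.ext (((hmemZ a).1 a.2).2 b b.2.1)
  have hZS : S ≤ normalizer (Z : Set H) := by
    intro g hg
    refine mem_normalizer_of_conj_le fun z hz => (hmemZ _).2 ⟨(mem_normalizer_iff.1 (hQS hg) z).1 hz.1, fun b hb => ?_⟩
    have hb' : g⁻¹ * b * g ∈ Q := (mem_normalizer_iff''.1 (hQS hg) b).1 hb
    calc g * z * g⁻¹ * b = g * (z * (g⁻¹ * b * g)) * g⁻¹ := by group
      _ = g * ((g⁻¹ * b * g) * z) * g⁻¹ := by rw [((hmemZ z).1 hz).2 _ hb']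
      _ = b * (g * z * g⁻¹) := by group
  have hyZ : ∀ z : Z, (z : H) * y = y * z := fun z => mem_centralizer_iff.1
    (habel Z inf_le_left hZS (fun a ha b hb => ((hmemZ a).1 ha).2 b hb.1) (mem_zpowers y)) z z.2
  have hZK : ((Nat.card Z : ℕ) : K) ≠ 0 := by
    obtain ⟨m, hm⟩ := IsPGroup.iff_card.1 (hQ.to_le (inf_le_left : Z ≤ Q))
    rw [hm, Nat.cast_pow]
    exact pow_ne_zero _ hrK
  by_contra hcon
  obtain ⟨a, haQ, hca⟩ : ∃ a ∈ Q, y * a * y⁻¹ ≠ a := by
    by_contra hh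
    push Not at hh
    exact hcon (zpowers_le.2 (mem_centralizer_iff.2 fun a ha => (mul_inv_eq_iff_eq_mul.1 (hh a ha)).symm))
  obtain ⟨v₀, hv₀, hmv⟩ : ∃ v : V, (∀ z : Z, ∃ s : K, ρ z v = s • v) ∧ ρ (y * a * y⁻¹) v ≠ ρ a v := by
    by_contra hh
    push Not at hh
    exact hca (hρ (LinearMap.ext_on (common_eigen_span hZcomm hZK (ρ.comp Z.subtype)) fun v hv => hh v hv))
  have hv₀0 : v₀ ≠ 0 := fun h => hmv (by simp [h])
  choose f hf using hv₀
  let fZ : Z →* K :=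
    { toFun := f
      map_one' := smul_left_injective K hv₀0 (by
        show f 1 • v₀ = (1 : K) • v₀
        rw [← hf, Subgroup.coe_one, map_one, Module.End.one_apply, one_smul])
      map_mul' := fun z z' => smul_left_injective K hv₀0 (by
        show f (z * z') • v₀ = (f z * f z') • v₀
        rw [← hf, Subgroup.coe_mul, map_mul, Module.End.mul_apply, hf, map_smul, hf, smul_smul, mul_comm]) }
  set U : Submodule K V := ⨅ z : Z, (ρ (z : H)).eigenspace (f z) with hUdef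
  have hU : ∀ v, v ∈ U ↔ ∀ z : Z, ρ (z : H) v = f z • v := fun v => by
    simp [hUdef, Submodule.mem_iInf]
  have hv₀U : v₀ ∈ U := (hU _).2 fun z => hf z
  haveI : Nontrivial U := ⟨⟨⟨v₀, hv₀U⟩, 0, fun e => hv₀0 (congrArg Subtype.val e)⟩⟩
  -- the orbit of the eigenvalue function
  have hxS : x ∈ S := mem_zpowers x
  let τz : Z → Z := fun z => ⟨x⁻¹ * (z : H) * x, (mem_normalizer_iff''.1 (hZS hxS) z).1 z.2⟩
  have hτi : ∀ (i : ℕ) (z : Z), ((τz^[i] z : Z) : H) = (x ^ i)⁻¹ * (z : H) * x ^ i := by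
    intro i
    induction i with
    | zero => intro z; simp
    | succ i ih =>
      intro z
      rw [Function.iterate_succ_apply', show ((τz (τz^[i] z) : Z) : H) = x⁻¹ * ((τz^[i] z : Z) : H) * x from rfl, ih,
        pow_succ]
      group
  let τ : (Z → K) → (Z → K) := fun g => g ∘ τz
  have hτ : ∀ (i : ℕ) (g : Z → K), τ^[i] g = g ∘ τz^[i] := by
    intro i
    induction i with
    | zero => intro g; rfl
    | succ i ih => intro g; rw [Function.iterate_succ_apply', ih, Function.iterate_succ]; rfl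
  have hper : Function.IsPeriodicPt τ (p ^ k) f := by
    show τ^[p ^ k] f = f
    rw [hτ]
    funext z
    show f _ = f z
    congr 1
    refine Subtype.ext ?_
    rw [hτi, mul_assoc, ← hy, hyZ z, ← mul_assoc, inv_mul_cancel, one_mul]
  obtain ⟨c, hck, hcM⟩ := (Nat.dvd_prime_pow hp).1 hper.minimalPeriod_dvd
  obtain ⟨e, rfl⟩ : ∃ e, k = c + e := ⟨k - c, by omega⟩
  set M := p ^ c with hMdef
  have hMpos : 0 < M := pow_pos hp.pos _
  have hfM : ∀ z : Z, f (τz^[M] z) = f z := by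
    have h1 : τ^[M] f = f := by rw [← hcM]; exact Function.isPeriodicPt_minimalPeriod τ f
    rw [hτ] at h1
    exact fun z => congrFun h1 z
  have hinj : Set.InjOn (fun i => f ∘ τz^[i]) (Set.Iio M) := by
    have h1 := Function.iterate_injOn_Iio_minimalPeriod (f := τ) (x := f)
    rw [hcM] at h1
    simpa only [hτ] using h1
  have hXU : x ^ M ∈ stabSub ρ U := fun v hv => by
    rw [hU] at hv ⊢
    intro z
    have h1 : (z : H) * x ^ M = x ^ M * (τz^[M] z : Z) := by rw [hτi]; group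
    rw [← Module.End.mul_apply, ← map_mul, h1, map_mul, Module.End.mul_apply, hv, map_smul, hfM]
  have hQU : Q ≤ stabSub ρ U := fun g hg v hv => by
    rw [hU] at hv ⊢
    intro z
    rw [← Module.End.mul_apply, ← map_mul, ((hmemZ _).1 z.2).2 g hg, map_mul, Module.End.mul_apply, hv, map_smul]
  set G₁ := Q ⊔ zpowers (x ^ M) with hG₁
  have hG₁U : G₁ ≤ stabSub ρ U := sup_le hQU (zpowers_le.2 hXU)
  let ρU : G₁ →* Module.End K U := restrictRep (ρ.comp G₁.subtype) U fun g => hG₁U g.2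
  set Q₁ := Q.subgroupOf G₁ with hQ₁
  haveI : Q₁.Normal := normal_subgroupOf_of_le_normalizer
    (sup_le le_normalizer (zpowers_le.2 (hQS (pow_mem hxS M))))
  have hQ₁p : IsPGroup r Q₁ := hQ.comap_of_injective _ G₁.subtype_injective
  have hmQ₁ : ∀ u : G₁, u ∈ Q₁ ↔ (u : H) ∈ Q := fun u => mem_subgroupOf
  let X : G₁ := ⟨x ^ M, (le_sup_right : zpowers (x ^ M) ≤ G₁) (mem_zpowers _)⟩
  have hMe : ∀ l, (X ^ p ^ l : G₁) = ((x ^ p ^ (c + l) : H)) := fun l => by
    rw [Subgroup.coe_pow]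
    show (x ^ M) ^ p ^ l = _
    rw [← pow_mul, hMdef, ← pow_add]
  have hXy : ((X ^ p ^ e : G₁) : H) = y := hMe e
  have hXN : X ^ p ^ (e + 1) = 1 := Subtype.ext (by rw [hMe, ← add_assoc, hx, Subgroup.coe_one])
  have hfixU : ∀ v : U, ρU X v = v → v = 0 := by
    intro v hv
    by_contra hne
    have hvM : (ρ x ^ M) (v : V) = v := by
      rw [← map_pow]; exact congrArg Subtype.val hv
    obtain ⟨w, hw0, hw⟩ := fixed_of_orbit (ρ.comp Z.subtype) (ρ x) ((Group.isUnit x).map ρ) τz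
      (fun z => by
        show ρ x * ρ (x⁻¹ * (z : H) * x) = ρ (z : H) * ρ x
        rw [← map_mul, ← map_mul]; congr 1; group)
      (v : V) f (fun z => (hU _).1 v.2 z) (fun h => hne (Subtype.ext h)) M hinj hMpos hvM
    exact hw0 (hfix w hw)
  have hscalZ : ∀ u : G₁, (hz : (u : H) ∈ Z) → ρU u = f ⟨u, hz⟩ • 1 := fun u hz =>
    LinearMap.ext fun v => Subtype.ext ((hU _).1 v.2 ⟨u, hz⟩)
  have hkerZ : ∀ u : G₁, (u : H) ∈ Z → u ∈ (adRep ρU).ker := fun u hz =>
    (mem_ker_adRep_iff ρU u).2 ⟨_, hscalZ u hz⟩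
  have hΦcomm : ∀ u ∈ Q₁, ∀ b ∈ Q₁, ((u * b * u⁻¹ * b⁻¹ : G₁) : H) ∈ Φ := fun u hu b hb =>
    ⟨⟨u, (hmQ₁ u).1 hu⟩ * ⟨b, (hmQ₁ b).1 hb⟩ * ⟨u, (hmQ₁ u).1 hu⟩⁻¹ * ⟨b, (hmQ₁ b).1 hb⟩⁻¹,
      Cfsg.Lib.PGroups.commutator_le_frattini hQ (commutator_mem_commutator (mem_top _) (mem_top _)), rfl⟩
  have hcommQ : ∀ u ∈ Q₁, ∀ b ∈ Q₁, ∃ s : K, ρU u * ρU b = s • (ρU b * ρU u) := by
    intro u hu b hb
    refine ⟨f ⟨_, hΦZ _ (hΦcomm u hu b hb)⟩, ?_⟩
    calc ρU u * ρU b = ρU ((u * b * u⁻¹ * b⁻¹) * (b * u)) := by rw [← map_mul]; congr 1; group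
      _ = _ := by rw [map_mul, hscalZ _ (hΦZ _ (hΦcomm u hu b hb)), smul_mul_assoc, one_mul, map_mul]
  let φ : G₁ →* (Module.End K (Module.End K U))ˣ := (adRep ρU).toHomUnits
  have hφker : ∀ u : G₁, φ u = 1 ↔ u ∈ (adRep ρU).ker := fun u => by
    rw [MonoidHom.mem_ker, Units.ext_iff]; rfl
  set Wg := Q₁.map φ with hWg
  haveI : Finite Wg := .of_surjective (fun r : Q₁ => (⟨φ r, r, r.2, rfl⟩ : Wg))
      fun ⟨_, r, hr, e⟩ => ⟨⟨r, hr⟩, Subtype.ext e⟩
  haveI hWc : IsMulCommutative Wg := ⟨⟨by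
    rintro ⟨_, u, hu, rfl⟩ ⟨_, b, hb, rfl⟩
    refine Subtype.ext ?_
    show φ u * φ b = φ b * φ u
    rw [← map_mul, show u * b = (u * b * u⁻¹ * b⁻¹) * (b * u) by group, map_mul,
      (hφker _).2 (hkerZ _ (hΦZ _ (hΦcomm u hu b hb))), one_mul, map_mul]⟩⟩
  have hWpow : ∀ w : Wg, w ^ r = 1 := by
    rintro ⟨_, u, hu, rfl⟩
    refine Subtype.ext ?_
    show φ u ^ r = 1
    rw [← map_pow, hφker]
    exact hkerZ _ (hΦZ _ ⟨⟨u, (hmQ₁ u).1 hu⟩ ^ r, Cfsg.Lib.PGroups.pow_mem_frattini hQ _, rfl⟩)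
  haveI : Module (ZMod r) (Additive Wg) := AddCommGroup.zmodModule fun w => by
    apply Additive.toMul.injective
    rw [toMul_nsmul, hWpow]; rfl
  have hφn : ∀ g : G₁, φ g ∈ normalizer (Wg : Set (Module.End K (Module.End K U))ˣ) := fun g => by
    refine (le_normalizer_map φ) ⟨g, ?_, rfl⟩
    rw [normalizer_eq_top_iff.2 inferInstance]; exact mem_top g
  let cact : G₁ →* MulAut Wg := Wg.normalizerMonoidHom.comp (φ.codRestrict _ hφn)
  let σ : G₁ →* Module.End (ZMod r) (Additive Wg) := (mulAutToEnd r Wg).comp cact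
  let π : Q₁ →* Multiplicative (Additive Wg) :=
    { toFun := fun u => Multiplicative.ofAdd (Additive.ofMul (⟨φ u, u, u.2, rfl⟩ : Wg))
      map_one' := by
        rw [show (⟨φ ((1 : Q₁) : G₁), _, (1 : Q₁).2, rfl⟩ : Wg) = 1 from Subtype.ext (map_one φ)]; rfl
      map_mul' := fun u b => by
        rw [show (⟨φ ((u * b : Q₁) : G₁), _, (u * b).2, rfl⟩ : Wg) = ⟨φ u, u, u.2, rfl⟩ * ⟨φ b, b, b.2, rfl⟩ from
          Subtype.ext (map_mul φ _ _)]
        rfl }
  have hπ : Function.Surjective π := by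
    intro w
    obtain ⟨u, hu, e⟩ := (Additive.toMul (Multiplicative.toAdd w) : Wg).2
    exact ⟨⟨u, hu⟩, Multiplicative.toAdd.injective (Additive.toMul.injective (Subtype.ext e))⟩
  have hπker : ∀ u : Q₁, π u = 1 ↔ (u : G₁) ∈ (adRep ρU).ker := fun u => by
    rw [← hφker]
    exact ⟨fun h => congrArg Subtype.val (congrArg Additive.toMul (congrArg Multiplicative.toAdd h)),
      fun h => Multiplicative.toAdd.injective (Additive.toMul.injective (Subtype.ext h))⟩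
  have hσπ : ∀ (g : G₁) (u : Q₁), σ g (π u).toAdd = (π (MulAut.conjNormal g u)).toAdd := fun g u => by
    show mulAutToEnd r Wg (cact g) (Additive.ofMul (⟨φ u, u, u.2, rfl⟩ : Wg)) =
      Additive.ofMul (⟨φ ((MulAut.conjNormal g u : Q₁) : G₁), _, (MulAut.conjNormal g u).2, rfl⟩ : Wg)
    refine (mulAutToEnd_apply Wg (cact g) _).trans (congrArg Additive.ofMul ?_)
    refine Subtype.ext ?_
    show φ g * φ u * (φ g)⁻¹ = φ _
    rw [MulAut.conjNormal_apply, map_mul, map_mul, map_inv]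
  set σy := σ (X ^ p ^ e) with hσy
  -- the element of order `p` has no fixed points on the support
  have hsurj : LinearMap.range (σy - 1) = ⊤ := by
    set R := LinearMap.range (σy - 1) with hR
    let R' : Subgroup H :=
      (((R.toAddSubgroup.toSubgroup).comap π).map Q₁.subtype).map G₁.subtype
    have hle : ⁅Q, D⁆ ≤ R' := by
      rw [commutator_le]
      intro u hu d hd
      obtain ⟨i, rfl⟩ := mem_powers_iff_mem_zpowers.2 hd
      let u₁ : G₁ := ⟨u, (le_sup_left : Q ≤ G₁) hu⟩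
      let g : G₁ := (X ^ p ^ e) ^ i
      have hgv : (g : H) = y ^ i := by rw [Subgroup.coe_pow, hXy]
      let w : Q₁ := ⟨u₁, (hmQ₁ u₁).2 hu⟩
      refine ⟨_, ⟨w * (MulAut.conjNormal g w)⁻¹, ?_, rfl⟩, ?_⟩
      · show (π (w * (MulAut.conjNormal g w)⁻¹)).toAdd ∈ R
        rw [map_mul, map_inv, toAdd_mul, toAdd_inv, ← hσπ, map_pow, ← hσy, ← sub_eq_add_neg]
        refine ⟨-((∑ l ∈ Finset.range i, σy ^ l) (π w).toAdd), ?_⟩
        rw [map_neg, ← Module.End.mul_apply, mul_geom_sum, LinearMap.sub_apply, Module.End.one_apply, neg_sub]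
      · show (((w * (MulAut.conjNormal g w)⁻¹ : Q₁) : G₁) : H) = ⁅u, y ^ i⁆
        rw [Subgroup.coe_mul, Subgroup.coe_inv, MulAut.conjNormal_apply, Subgroup.coe_mul, Subgroup.coe_inv,
          Subgroup.coe_mul, Subgroup.coe_mul, Subgroup.coe_inv, hgv, commutatorElement_def]
        show u * (y ^ i * u * (y ^ i)⁻¹)⁻¹ = u * y ^ i * u⁻¹ * (y ^ i)⁻¹
        group
    rw [hfull] at hle
    refine Submodule.eq_top_iff'.2 fun w => ?_
    obtain ⟨u, hu⟩ := hπ (Multiplicative.ofAdd w)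
    obtain ⟨_, ⟨u', hu', rfl⟩, he⟩ := hle ((hmQ₁ _).1 u.2)
    have : u' = u := Subtype.ext (Subtype.ext he)
    subst this
    have h1 : (π u').toAdd ∈ R := hu'
    rw [hu] at h1
    exact h1
  have hσfix : ∀ w, σy w = w → w = 0 := by
    intro w hw
    have hbij := Finite.injective_iff_surjective.2 (LinearMap.range_eq_top.1 hsurj)
    exact hbij (by rw [LinearMap.sub_apply, hw, Module.End.one_apply, sub_self, map_zero])
  have hfree : ∀ u ∈ Q₁, X ^ p ^ e * u * (X ^ p ^ e)⁻¹ * u⁻¹ ∈ (adRep ρU).ker → u ∈ (adRep ρU).ker := by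
    intro u hu hk
    rw [← hπker ⟨u, hu⟩]
    apply Multiplicative.toAdd.injective
    rw [toAdd_one]
    refine hσfix _ ?_
    rw [hσy, hσπ]
    congr 1
    refine mul_inv_eq_one.1 ?_
    rw [← map_inv, ← map_mul, hπker, Subgroup.coe_mul, Subgroup.coe_inv, MulAut.conjNormal_apply]
    exact hk
  set a₁ : G₁ := ⟨a, (le_sup_left : Q ≤ G₁) haQ⟩ with ha₁def
  have ha₁ : a₁ ∈ Q₁ := (hmQ₁ _).2 haQ
  have hane : a₁ ∉ (adRep ρU).ker := by
    intro hk
    obtain ⟨s, hs⟩ := (mem_ker_adRep_iff ρU a₁).1 hk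
    refine hmv ?_
    have h1 : ρU (X ^ p ^ e * a₁ * (X ^ p ^ e)⁻¹) = ρU a₁ := by
      rw [map_mul, map_mul, hs, mul_smul_comm, mul_one, smul_mul_assoc, ← map_mul, mul_inv_cancel, map_one]
    have h2 : ρ (((X ^ p ^ e * a₁ * (X ^ p ^ e)⁻¹ : G₁)) : H) v₀ = ρ a v₀ :=
      congrArg Subtype.val (LinearMap.congr_fun h1 ⟨v₀, hv₀U⟩)
    rwa [Subgroup.coe_mul, Subgroup.coe_mul, Subgroup.coe_inv, hXy] at h2
  obtain ⟨hr2, b, hb1, hpb, hcard⟩ := coprime_support (p := p) (k := e) hp2 hpK hrK ρU Q₁ hQ₁p X hXN hcommQ hfree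
    ⟨a₁, ha₁, hane⟩ hfixU
  exact hr2' hr2

end Cfsg.Lib.ThreePrime
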