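import Cfsg.Agent.Suz.Subfield
import Cfsg.Agent.Coprime.SchurZassenhaus
import Cfsg.Agent.Goldschmidt.Final
import Cfsg.Agent.Ree.Field.Final
import Cfsg.Agent.Goldschmidt.Consequences.SFour

/-!
Simple groups of order prime to three are Suzuki groups, up to isomorphism; their automorphisms of order three
are conjugate to field automorphisms, so fix an involution, and fix a soluble group only in `Sz(8)`.
-/

set_option autoImplicit false
set_option linter.style.haveILetI false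
set_option linter.unusedSectionVars false

namespace Cfsg.Lib.ThreePrime

open Subgroup
open Cfsg.Lib.Suz (Par fld uu uu_inj uu_zero uu_sq fld_uu fld_hI fld_wS hI wS exists_inner_mul_field fld_inner
  simple card_Sz)

universe u

/-- A simple group of order prime to `3` is a Suzuki group. -/
theorem iso_of_coprime_three {G : Type u} [Group G] [Finite G] [IsSimpleGroup G] (hna : ¬ IsMulCommutative G)
    (h3 : ¬ 3 ∣ Nat.card G) : ∃ (F : Type) (_ : Field F) (_ : Fintype F) (m : ℕ) (_ : Par F m),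
      Nonempty (G ≃* ↥(Cfsg.Sz F m)) := by
  have hno : ∀ (P : Type) [Group P], 3 ∣ Nat.card P → ¬ Cfsg.Involves P G := by
    intro P _ h hi
    obtain ⟨K, R, _, ⟨e⟩⟩ := hi
    refine h3 (h.trans ?_)
    rw [← Nat.card_congr e.toEquiv]
    exact (card_quotient_dvd_card _).trans (card_subgroup_dvd_card K)
  have hgold := (Cfsg.Lib.Goldschmidt.sfour_free_iff Cfsg.Lib.Goldschmidt.goldProp Cfsg.Lib.Ree.Field.noFieldProp
    hna).1 (hno _ (by rw [Nat.card_perm, Nat.card_fin]; decide))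
  rcases (Cfsg.Agent.S2755.result hgold).2.1 (hno _ (by rw [Nat.card_perm, Nat.card_fin]; decide)) with
    ⟨F, iF, iF', m, hm, hF, ⟨f⟩⟩ | ⟨F, iF, iF', n, hF, ⟨f⟩⟩
  · exact ⟨F, iF, iF', m, ⟨hm, hF⟩, ⟨f.trans (Cfsg.Lib.Suz.lieEquiv (⟨hm, hF⟩ : Par F m)).symm⟩⟩
  · exfalso
    have h := Cfsg.Lib.Classical.SmallPSL.card_psl (F := F) rfl
    rw [← Nat.card_congr f.toEquiv] at h
    have h3F : 3 ∣ Fintype.card F := hF ▸ dvd_pow_self 3 (Nat.succ_ne_zero _)
    have hdvd : 3 ∣ Nat.gcd 2 (Fintype.card F - 1) * Nat.card G := h ▸ h3F.mul_right _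
    rcases Nat.prime_three.dvd_mul.1 hdvd with h' | h'
    · have := Nat.le_of_dvd two_pos (h'.trans (Nat.gcd_dvd_left _ _))
      omega
    · exact h3 h'

variable {F : Type*} [Field F] [Fintype F] {m : ℕ} (Q : Par F m)

local notation "SS" => Cfsg.Sz F m

include Q

theorem not_three_dvd_card : ¬ 3 ∣ Nat.card SS := by
  rw [card_Sz Q]
  have h2 : 2 ^ (2 * m + 1) % 3 = 2 := by
    rw [pow_succ, pow_mul, Nat.mul_mod, Nat.pow_mod]
    norm_num
  intro h
  have hpos : 0 < 2 ^ (2 * m + 1) := pow_pos two_pos _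
  rcases (Nat.prime_three.dvd_mul).1 h with h | h
  · rcases (Nat.prime_three.dvd_mul).1 h with h | h
    · have := Nat.prime_three.dvd_of_dvd_pow h
      omega
    · have : ((2 ^ (2 * m + 1)) ^ 2 + 1) % 3 = 2 := by rw [Nat.add_mod, Nat.pow_mod, h2]
      omega
  · omega

theorem center_triv : center SS = ⊥ := by
  haveI := simple Q
  refine (IsSimpleGroup.eq_bot_or_eq_top_of_normal (center SS) inferInstance).resolve_right fun e => ?_
  haveI : IsMulCommutative SS := ⟨⟨fun a b => mem_center_iff.1 (e ▸ mem_top b) a⟩⟩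
  have h := Cfsg.Lib.Suz.perfect Q
  rw [commutator_def, (commutator_eq_bot_iff_le_centralizer).2 (fun a _ => mem_centralizer_iff.2 fun b _ =>
    mem_center_iff.1 (e ▸ mem_top a) b)] at h
  haveI := (IsSimpleGroup.toNontrivial : Nontrivial SS)
  exact bot_ne_top h

theorem one_of_conj {c : SS} (h : MulAut.conj c = 1) : c = 1 := by
  have hc : c ∈ center SS := mem_center_iff.2 fun g => by
    have := DFunLike.congr_fun h g
    simp only [MulAut.conj_apply, MulAut.one_apply] at this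
    exact (mul_inv_eq_iff_eq_mul.1 this).symm
  rwa [center_triv Q, mem_bot] at hc

theorem fld_conj (σ : F ≃+* F) (c : SS) : fld Q σ * MulAut.conj c = MulAut.conj (fld Q σ c) * fld Q σ :=
  MulEquiv.ext fun x => by simp [MulAut.conj_apply]

/-- An automorphism of order three has, up to conjugation, the fixed points of a field automorphism. -/
theorem exists_field_conj {φ : MulAut SS} (hφ : φ ^ 3 = 1) (h1 : φ ≠ 1) :
    ∃ σ : F ≃+* F, σ ^ 3 = 1 ∧ σ ≠ 1 ∧ ∃ c : SS, ∀ x, fld Q σ x = x → φ (c * x * c⁻¹) = c * x * c⁻¹ := by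
  classical
  haveI : Fact (Nat.Prime 3) := ⟨Nat.prime_three⟩
  haveI : Finite (F ≃+* F) := Finite.of_injective _ DFunLike.coe_injective
  obtain ⟨c₀, σ, hc₀⟩ := exists_inner_mul_field Q φ
  have hpow : ∀ n : ℕ, ∃ a : SS, φ ^ n = MulAut.conj a * fld Q (σ ^ n) := by
    intro n
    induction n with
    | zero => exact ⟨1, by simp⟩
    | succ n ih =>
      obtain ⟨a, ha⟩ := ih
      refine ⟨a * fld Q (σ ^ n) c₀, ?_⟩
      rw [pow_succ, ha, hc₀, mul_assoc, ← mul_assoc (fld Q (σ ^ n)), fld_conj, pow_succ σ, map_mul, map_mul,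
        mul_assoc, mul_assoc]
  obtain ⟨a, ha⟩ := hpow 3
  rw [hφ] at ha
  have hσ3 : σ ^ 3 = 1 := fld_inner Q (c := a⁻¹) (by
    rw [map_inv]; exact eq_inv_of_mul_eq_one_right ha.symm)
  have hσ1 : σ ≠ 1 := by
    intro e
    rw [e, map_one, mul_one] at hc₀
    rw [hc₀, ← map_pow] at hφ
    have h3 : orderOf c₀ ∣ 3 := orderOf_dvd_of_pow_eq_one (one_of_conj Q hφ)
    refine h1 ?_
    rcases (Nat.dvd_prime Nat.prime_three).1 h3 with h | h
    · rw [hc₀, orderOf_eq_one_iff.1 h, map_one]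
    · exact absurd (h ▸ orderOf_dvd_natCard c₀) (not_three_dvd_card Q)
  refine ⟨σ, hσ3, hσ1, ?_⟩
  set N : Subgroup (MulAut SS) := (MulAut.conj : SS →* MulAut SS).range with hN
  haveI : N.Normal := ⟨fun x hx g => by
    obtain ⟨y, rfl⟩ := hx
    exact ⟨g y, MulEquiv.ext fun z => by simp [MulAut.conj_apply]⟩⟩
  have hcN : (Nat.card N).Coprime 3 := by
    refine ((Nat.prime_three.coprime_iff_not_dvd).2 fun h => not_three_dvd_card Q (h.trans ?_)).symm
    exact Subgroup.card_range_dvd _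
  have hfσ : fld Q σ ≠ 1 := fun e => hσ1 (fld_inner Q (c := 1) (by rw [e, map_one]))
  have ho : orderOf (fld Q σ) = 3 :=
    orderOf_eq_prime (by rw [← map_pow, hσ3, map_one]) hfσ
  have hoφ : orderOf φ = 3 := orderOf_eq_prime hφ h1
  have hK : zpowers φ ≤ N ⊔ zpowers (fld Q σ) := zpowers_le.2 (by
    rw [hc₀]; exact mul_mem (mem_sup_left ⟨c₀, rfl⟩) (mem_sup_right (mem_zpowers _)))
  obtain ⟨n, ⟨c, rfl⟩, hn⟩ := Cfsg.Lib.Coprime.exists_conj_eq_of_coprime (N := N) (H := zpowers (fld Q σ))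
    le_normalizer_of_normal (by rwa [Nat.card_zpowers, ho]) (Or.inr inferInstance) hK
    (by rw [Nat.card_zpowers, Nat.card_zpowers, hoφ, ho])
  have hmem : φ ∈ Cfsg.Lib.Coprime.conjMap (MulAut.conj c) (zpowers (fld Q σ)) := hn ▸ mem_zpowers φ
  rw [Cfsg.Lib.Coprime.mem_conjMap] at hmem
  obtain ⟨i, hi⟩ := mem_zpowers_iff.1 hmem
  refine ⟨c, fun x hx => ?_⟩
  have hfix : (fld Q σ ^ i) x = x := by
    have : fld Q σ ∈ MulAction.stabilizer (MulAut SS) x := hx
    exact zpow_mem this i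
  rw [hi] at hfix
  have h4 : (MulAut.conj c)⁻¹ (φ (c * x * c⁻¹)) = x := by
    simpa [MulAut.conj_apply] using hfix
  have h5 := congrArg (MulAut.conj c) h4
  rwa [MulAut.apply_inv_self, MulAut.conj_apply] at h5

/-- An automorphism of order three fixes an involution. -/
theorem exists_fixed_involution {φ : MulAut SS} (hφ : φ ^ 3 = 1) : ∃ x : SS, orderOf x = 2 ∧ φ x = x := by
  haveI : Fact (Nat.Prime 2) := ⟨Nat.prime_two⟩
  have hu : orderOf (uu Q (0 : F) 1) = 2 := orderOf_eq_prime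
    (by rw [uu_sq, zero_pow (Nat.succ_ne_zero _), uu_zero])
    (fun e => one_ne_zero (uu_inj Q (e.trans (uu_zero Q).symm)).2)
  by_cases h1 : φ = 1
  · exact ⟨_, hu, by rw [h1, MulAut.one_apply]⟩
  obtain ⟨σ, -, -, c, hc⟩ := exists_field_conj Q hφ h1
  refine ⟨c * uu Q 0 1 * c⁻¹, ?_, hc _ (by rw [fld_uu, map_zero, map_one])⟩
  rw [show c * uu Q (0 : F) 1 * c⁻¹ = MulAut.conj c (uu Q 0 1) from rfl, MulEquiv.orderOf_eq]
  exact hu

/-- A field automorphism of order three with soluble fixed points forces `q = 8`. -/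
theorem eq_eight {σ : F ≃+* F} (h3 : σ ^ 3 = 1) (h1 : σ ≠ 1) {U : Subgroup SS} (hU : Group.IsSolvable U)
    (hfix : ∀ x, fld Q σ x = x → x ∈ U) : m = 1 := by
  classical
  have hcp := Cfsg.Lib.Suz.charP Q
  haveI : Fact (Nat.Prime 2) := ⟨Nat.prime_two⟩
  letI := ZMod.algebra F 2
  haveI : FiniteDimensional (ZMod 2) F := Module.Finite.of_finite
  let τ : F ≃ₐ[ZMod 2] F := AlgEquiv.ofRingEquiv (f := σ) (fun k => DFunLike.congr_fun
    (Subsingleton.elim (σ.toRingHom.comp (algebraMap (ZMod 2) F)) (algebraMap (ZMod 2) F)) k)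
  have hτap : ∀ a, τ a = σ a := fun _ => rfl
  have hτ : ∀ n : ℕ, ∀ a, (τ ^ n) a = (σ ^ n) a := by
    intro n
    induction n with
    | zero => intro a; rfl
    | succ n ih => intro a; rw [pow_succ', pow_succ', AlgEquiv.mul_apply, ih]; rfl
  have hτ1 : τ ≠ 1 := fun e => h1 (RingEquiv.ext fun a => DFunLike.congr_fun e a)
  haveI : Fact (Nat.Prime 3) := ⟨Nat.prime_three⟩
  have hτo : orderOf τ = 3 := orderOf_eq_prime (AlgEquiv.ext fun a => by rw [hτ, h3]; rfl) hτ1
  set K := IntermediateField.fixedField (zpowers τ) with hK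
  have hKfix : ∀ a : K, σ a = a := fun a => (hτap a).symm.trans (a.2 ⟨τ, mem_zpowers τ⟩)
  have h3K : Module.finrank K F = 3 := by
    rw [hK, IntermediateField.finrank_fixedField_eq_card, Nat.card_zpowers, hτo]
  have hmul := Module.finrank_mul_finrank (ZMod 2) K F
  have hF : Module.finrank (ZMod 2) F = 2 * m + 1 := by
    have := Module.card_eq_pow_finrank (K := ZMod 2) (V := F)
    rw [ZMod.card, Q.hF] at this
    exact (Nat.pow_right_injective le_rfl this).symm
  rw [h3K, hF] at hmul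
  haveI : Fintype K := Fintype.ofFinite K
  obtain ⟨k, hk⟩ : ∃ k, Module.finrank (ZMod 2) K = 2 * k + 1 := ⟨Module.finrank (ZMod 2) K / 2, by omega⟩
  rw [hk] at hmul
  by_contra hm1
  have R : Par K k := ⟨by have := Q.hm; omega, by rw [Module.card_eq_pow_finrank (K := ZMod 2) (V := K), ZMod.card, hk]⟩
  have hdiv : 2 * k + 1 ∣ 2 * m + 1 := Dvd.intro _ hmul
  let ι : K →+* F := K.val.toRingHom
  have hι : ∀ a : K, σ (ι a) = ι a := hKfix
  have hle : (Cfsg.Lib.Suz.emb Q R hdiv ι).range ≤ U := by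
    refine Cfsg.Lib.Suz.emb_range_le Q R hdiv ι (fun a b => hfix _ ?_) (fun t => hfix _ ?_) (hfix _ (fld_wS Q σ))
    · rw [fld_uu, hι, hι]
    · rw [fld_hI]
      congr 1
      exact Units.ext (hι t)
  haveI : Group.IsSolvable (Cfsg.Sz K k) :=
    Group.isSolvable_of_isSolvable_injective (f := (Cfsg.Lib.Suz.emb Q R hdiv ι).codRestrict U
      (fun g => hle ⟨g, rfl⟩)) (fun a b e => Cfsg.Lib.Suz.emb_injective Q R hdiv ι (congrArg Subtype.val e))
  haveI := simple R
  exact ((Cfsg.Lib.Suz.perfect R) ▸ (Group.IsSolvable.commutator_lt_top_of_nontrivial (Cfsg.Sz K k))).false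

end Cfsg.Lib.ThreePrime
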