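import Cfsg.Agent.ThreePrime.Core
import Cfsg.Agent.ThreePrime.Suzuki
import Cfsg.Agent.GenDihedral.Red.Tools
import Cfsg.Agent.Coprime.SolvableBasics
import Mathlib.GroupTheory.FixedPointFree

/-!
A group of order prime to three with an automorphism of order three fixing no involution is soluble, and such
an automorphism acts trivially modulo `O_{2',2}`.
-/

set_option autoImplicit false
set_option linter.style.haveILetI false
set_option linter.unusedSectionVars false

namespace Cfsg.Lib.ThreePrime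

open Subgroup Cfsg.Lib.HallHigman

universe u

variable {G : Type u} [Group G] [Finite G]

/-- A fixed coset of an invariant subgroup of order prime to three has a fixed representative. -/
theorem exists_fixed_rep {σ : MulAut G} (hσ : σ ^ 3 = 1) (N : Subgroup G) (hN : ∀ a ∈ N, σ a ∈ N)
    (h3 : ¬ 3 ∣ Nat.card N) {g : G} (hg : g⁻¹ * σ g ∈ N) : ∃ f, σ f = f ∧ g⁻¹ * f ∈ N := by
  haveI : Fact (Nat.Prime 3) := ⟨Nat.prime_three⟩
  set S : Set G := {h | g⁻¹ * h ∈ N} with hS
  have hinv : ∀ h ∈ S, σ h ∈ S := fun h hh => by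
    show g⁻¹ * σ h ∈ N
    have h1 := hN _ hh
    rw [map_mul, map_inv] at h1
    have := N.mul_mem hg h1
    rwa [mul_assoc, mul_inv_cancel_left] at this
  have hcard : Nat.card S = Nat.card N := Nat.card_congr
    { toFun := fun h => ⟨g⁻¹ * h.1, h.2⟩
      invFun := fun a => ⟨g * a.1, by show g⁻¹ * (g * a.1) ∈ N; rw [inv_mul_cancel_left]; exact a.2⟩
      left_inv := fun h => Subtype.ext (mul_inv_cancel_left g h.1)
      right_inv := fun a => Subtype.ext (inv_mul_cancel_left g a.1) }
  obtain ⟨f, hf, hff⟩ := exists_fixed_in_invariant (p := 3) σ (n := 1) (by rw [pow_one]; exact hσ) S hinv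
    (hcard.symm ▸ h3)
  exact ⟨f, hff, hf⟩

/-- The induced automorphism of a quotient, with the fixed points of odd order. -/
theorem exists_quotient_odd {σ : MulAut G} (hσ : σ ^ 3 = 1) (h3 : ¬ 3 ∣ Nat.card G)
    (hodd : ∀ g, σ g = g → Odd (orderOf g)) (N : Subgroup G) [N.Normal]
    (hN : N.map (σ : G ≃* G).toMonoidHom = N) :
    ∃ τ : MulAut (G ⧸ N), τ ^ 3 = 1 ∧ (∀ g : G, τ (QuotientGroup.mk g) = QuotientGroup.mk (σ g)) ∧
      ∀ t, τ t = t → Odd (orderOf t) := by
  obtain ⟨τ, hτ⟩ := exists_quotient_aut σ N hN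
  have hτ1 : ∀ g : G, τ (QuotientGroup.mk g) = QuotientGroup.mk (σ g) := fun g => by
    have := hτ 1 g
    rwa [pow_one, pow_one] at this
  refine ⟨τ, MulEquiv.ext fun t => ?_, hτ1, fun t ht => ?_⟩
  · obtain ⟨g, rfl⟩ := QuotientGroup.mk_surjective t
    rw [hτ, hσ]; rfl
  · obtain ⟨g, rfl⟩ := QuotientGroup.mk_surjective t
    rw [hτ1] at ht
    obtain ⟨f, hf, hgf⟩ := exists_fixed_rep hσ N (fun a ha => hN.le (mem_map_of_mem _ ha))
      (fun h => h3 (h.trans (card_subgroup_dvd_card N))) (QuotientGroup.eq.1 ht.symm)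
    rw [show (QuotientGroup.mk g : G ⧸ N) = QuotientGroup.mk' N f from QuotientGroup.eq.2 hgf]
    exact (hodd f hf).of_dvd_nat (orderOf_map_dvd _ f)

theorem solvable_of_odd_fixed_aux : ∀ (n : ℕ) (G : Type u) [Group G] [Finite G], Nat.card G = n →
    ¬ 3 ∣ Nat.card G → ∀ σ : MulAut G, σ ^ 3 = 1 → (∀ g, σ g = g → Odd (orderOf g)) → Group.IsSolvable G := by
  intro n
  induction n using Nat.strong_induction_on with
  | _ n ih =>
  intro G _ _ hcard h3 σ hσ hodd
  classical
  have hthree : ∀ g : G, σ (σ (σ g)) = g := fun g => by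
    have h := DFunLike.congr_fun hσ g
    rwa [pow_three, MulAut.mul_apply, MulAut.mul_apply, MulAut.one_apply] at h
  rcases subsingleton_or_nontrivial G with hs | hs
  · infer_instance
  by_cases hprop : ∃ N : Subgroup G, N.Normal ∧ N ≠ ⊥ ∧ N ≠ ⊤ ∧ N.map (σ : G ≃* G).toMonoidHom = N
  · obtain ⟨N, hNn, hNb, hNt, hN⟩ := hprop
    haveI := hNn
    have hmul := N.card_mul_index
    have hN1 : 1 < Nat.card N := (Subgroup.one_lt_card_iff_ne_bot N).2 hNb
    have hNi : 1 < N.index := N.one_lt_index_of_ne_top hNt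
    refine GenDihedral.solvable_ext N ?_ ?_
    · set σN : MulAut N := ((σ : G ≃* G).subgroupMap N).trans (MulEquiv.subgroupCongr hN)
      have hap : ∀ a : N, (σN a : G) = σ a := fun _ => rfl
      refine ih (Nat.card N) (by nlinarith) N rfl (fun h => h3 (h.trans (card_subgroup_dvd_card N))) σN
        (MulEquiv.ext fun a => Subtype.ext ?_) (fun a ha => ?_)
      · rw [pow_three, MulAut.mul_apply, MulAut.mul_apply, hap, hap, hap, hthree]
        rfl
      · rw [← Subgroup.orderOf_coe]
        exact hodd _ ((hap a).symm.trans (congrArg Subtype.val ha))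
    · obtain ⟨τ, hτ3, -, hτo⟩ := exists_quotient_odd hσ h3 hodd N hN
      refine ih (Nat.card (G ⧸ N)) ?_ (G ⧸ N) rfl (fun h => h3 (h.trans (card_quotient_dvd_card N))) τ hτ3 hτo
      rw [← index_eq_card]
      nlinarith
  push Not at hprop
  have htop : ∀ N : Subgroup G, N.Normal → N ≠ ⊥ → N.map (σ : G ≃* G).toMonoidHom = N → N = ⊤ :=
    fun N h1 h2 h4 => by_contra fun h => hprop N h1 h2 h h4
  by_cases hZ : center G = ⊥
  swap
  · have hZ' := htop (center G) inferInstance hZ (map_eq_of_char σ _)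
    exact Group.isSolvable_of_comm fun a b => mem_center_iff.1 (hZ' ▸ mem_top b) a
  exfalso
  obtain ⟨M, ⟨hMn, hMb⟩, hMmin⟩ :=
    (Set.toFinite {N : Subgroup G | N.Normal ∧ N ≠ ⊥}).exists_minimalFor (fun N : Subgroup G => Nat.card N) _
      ⟨⊤, inferInstance, top_ne_bot⟩
  haveI := hMn
  have hmin : ∀ N : Subgroup G, N.Normal → N ≠ ⊥ → N ≤ M → N = M := fun N h1 h2 h4 =>
    Subgroup.eq_of_le_of_card_ge h4 (hMmin (j := N) ⟨h1, h2⟩ (Subgroup.card_le_of_le h4))
  by_cases hMt : M = ⊤
  · -- the simple case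
    subst hMt
    haveI : IsSimpleGroup G := ⟨fun N hN => or_iff_not_imp_left.2 fun h => hmin N hN h le_top⟩
    have hna : ¬ IsMulCommutative G := fun h => by
      haveI := h
      obtain ⟨x, hx⟩ := exists_ne (1 : G)
      exact hx (mem_bot.1 (hZ ▸ mem_center_iff.2 fun g => mul_comm' g x))
    have hev : ¬ Odd (Nat.card G) := fun h => hna (by
      haveI := Cfsg.Agent.PF.isSolvable_of_odd G h
      exact IsSimpleGroup.comm_iff_isSolvable.2 inferInstance |> fun h => ⟨⟨h⟩⟩)
    obtain ⟨F, iF, iF', m, Q, ⟨e⟩⟩ := iso_of_coprime_three hna h3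
    set φ : MulAut ↥(Cfsg.Sz F m) := (e.symm.trans σ).trans e with hφ
    have hφ3 : φ ^ 3 = 1 := MulEquiv.ext fun x => by
      rw [pow_three, MulAut.mul_apply, MulAut.mul_apply]
      simp only [hφ, MulEquiv.trans_apply, MulEquiv.symm_apply_apply]
      rw [hthree, MulEquiv.apply_symm_apply, MulAut.one_apply]
    obtain ⟨x, hx, hfix⟩ := exists_fixed_involution Q hφ3
    have h := hodd (e.symm x) (by
      have := congrArg e.symm hfix
      rwa [hφ, MulEquiv.trans_apply, MulEquiv.trans_apply, MulEquiv.symm_apply_apply] at this)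
    rw [MulEquiv.orderOf_eq, hx] at h
    exact absurd h (by decide)
  -- three conjugates of a minimal normal subgroup
  set f := (σ : G ≃* G).toMonoidHom with hf
  have hfs : Function.Surjective f := (σ : G ≃* G).surjective
  have hfi : Function.Injective f := (σ : G ≃* G).injective
  set M₁ := M.map f with hM₁
  set M₂ := M₁.map f with hM₂
  haveI h1n : M₁.Normal := hMn.map f hfs
  haveI h2n : M₂.Normal := h1n.map f hfs
  have hcyc : M₂.map f = M := by
    rw [hM₂, hM₁, map_map, map_map]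
    conv_rhs => rw [← M.map_id]
    congr 1
    exact MonoidHom.ext fun g => by
      exact hthree g
  have hcard1 : Nat.card M₁ = Nat.card M := (Nat.card_congr (M.equivMapOfInjective f hfi).toEquiv).symm
  have hne : M₁ ≠ M := fun e => hMt (htop M hMn hMb e)
  have hd : Disjoint M M₁ := disjoint_iff.2 (by_contra fun h => hne
    (Subgroup.eq_of_le_of_card_ge
      ((inf_eq_left.1 (hmin _ inferInstance h inf_le_left))) hcard1.le).symm)
  have hd1 : Disjoint M₁ M₂ := disjoint_iff.2 (by
    rw [hM₂]; conv_lhs => arg 1; rw [hM₁]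
    rw [← map_inf _ _ _ hfi, disjoint_iff.1 hd, Subgroup.map_bot])
  have hd2 : Disjoint M₂ M := disjoint_iff.2 (by
    rw [← hcyc]; conv_lhs => arg 1; rw [hM₂]
    rw [← map_inf _ _ _ hfi, disjoint_iff.1 hd1, Subgroup.map_bot])
  have hJ : M ⊔ M₁ ⊔ M₂ = ⊤ := by
    refine htop _ inferInstance (fun h => hMb (le_bot_iff.1 (h ▸ le_sup_left.trans le_sup_left))) ?_
    rw [Subgroup.map_sup, Subgroup.map_sup, hcyc]
    exact sup_comm _ _ |>.trans (sup_assoc _ _ _).symm
  have hcen : ∀ z : G, (∀ a ∈ M, Commute a z) → (∀ a ∈ M₁, Commute a z) → (∀ a ∈ M₂, Commute a z) → z = 1 := by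
    intro z k0 k1 k2
    have hle : M ⊔ M₁ ⊔ M₂ ≤ centralizer {z} := sup_le (sup_le
      (fun a ha => mem_centralizer_iff.2 fun b hb => by rw [Set.mem_singleton_iff] at hb; subst hb; exact (k0 a ha).symm.eq)
      (fun a ha => mem_centralizer_iff.2 fun b hb => by rw [Set.mem_singleton_iff] at hb; subst hb; exact (k1 a ha).symm.eq))
      (fun a ha => mem_centralizer_iff.2 fun b hb => by rw [Set.mem_singleton_iff] at hb; subst hb; exact (k2 a ha).symm.eq)
    rw [hJ] at hle
    exact mem_bot.1 (hZ ▸ mem_center_iff.2 fun g => (mem_centralizer_iff.1 (hle (mem_top g)) z rfl).symm)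
  have hev : 2 ∣ Nat.card M := by
    by_contra h
    have hle : M ≤ pPrimeCore 2 G := Cfsg.Lib.Components.le_pPrimeCore
      ((Nat.prime_two.coprime_iff_not_dvd.2 h).symm)
    have hO : pPrimeCore 2 G = ⊤ := htop _ inferInstance (fun e => hMb (le_bot_iff.1 (e ▸ hle))) (by
      refine Subgroup.eq_of_le_of_card_ge ?_ (by rw [Nat.card_congr ((pPrimeCore 2 G).equivMapOfInjective f hfi).toEquiv])
      haveI : ((pPrimeCore 2 G).map f).Normal := (inferInstance : (pPrimeCore 2 G).Normal).map f hfs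
      exact Cfsg.Lib.Components.le_pPrimeCore (by
        rw [← Nat.card_congr ((pPrimeCore 2 G).equivMapOfInjective f hfi).toEquiv]
        exact Cfsg.Lib.Components.coprime_card_pPrimeCore 2))
    have hod : Odd (Nat.card G) := by
      have := Cfsg.Lib.Components.coprime_card_pPrimeCore (G := G) 2
      rwa [hO, Subgroup.card_top, Nat.coprime_two_right] at this
    haveI := Cfsg.Agent.PF.isSolvable_of_odd G hod
    haveI := hs
    have hc := Group.IsSolvable.commutator_lt_top_of_nontrivial G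
    have hcb : commutator G = ⊥ := by_contra fun e => hc.ne (htop _ inferInstance e (map_eq_of_char σ _))
    rw [_root_.commutator_def, commutator_eq_bot_iff_le_centralizer] at hcb
    obtain ⟨x, hx⟩ := exists_ne (1 : G)
    exact hx (mem_bot.1 (hZ ▸ mem_center_iff.2 fun g => mem_centralizer_iff.1 (hcb (mem_top x)) g (mem_top g)))
  haveI : Fact (Nat.Prime 2) := ⟨Nat.prime_two⟩
  obtain ⟨x, hx⟩ := exists_prime_orderOf_dvd_card' (G := M) 2 hev
  rw [← Subgroup.orderOf_coe] at hx
  set a : G := (x : G) with ha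
  have ha0 : a ∈ M := x.2
  have ha1 : σ a ∈ M₁ := mem_map_of_mem f ha0
  have ha2 : σ (σ a) ∈ M₂ := mem_map_of_mem f ha1
  have c01 : Commute a (σ a) := commute_of_normal_of_disjoint M M₁ hMn h1n hd _ _ ha0 ha1
  have c12 : Commute (σ a) (σ (σ a)) := commute_of_normal_of_disjoint M₁ M₂ h1n h2n hd1 _ _ ha1 ha2
  have c20 : Commute (σ (σ a)) a := commute_of_normal_of_disjoint M₂ M h2n hMn hd2 _ _ ha2 ha0
  have hsq : a * a = 1 := by rw [← pow_two, ← hx, pow_orderOf_eq_one]
  set w := a * σ a * σ (σ a) with hw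
  have hfix : σ w = w := by
    have e : σ (σ (σ a)) = a := hthree a
    rw [hw, map_mul, map_mul, e]
    exact ((mul_assoc _ _ _).trans (c01.mul_right c20.symm).eq).symm
  have hww : w ^ 2 = 1 := by
    rw [hw, (Commute.mul_left c20.symm c12).mul_pow, c01.mul_pow, pow_two, pow_two, pow_two, hsq,
      ← map_mul, hsq, map_one, ← map_mul, ← map_mul, hsq, map_one, map_one, mul_one, mul_one]
  have hw1 : w ≠ 1 := by
    intro e
    rw [hw, mul_assoc] at e
    have hae : a = (σ a * σ (σ a))⁻¹ := eq_inv_of_mul_eq_one_left e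
    have ha1' : a = 1 := hcen a (fun b hb => by
        rw [hae]
        exact ((commute_of_normal_of_disjoint M M₁ hMn h1n hd _ _ hb ha1).mul_right
          (commute_of_normal_of_disjoint M₂ M h2n hMn hd2 _ _ ha2 hb).symm).inv_right)
      (fun b hb => (commute_of_normal_of_disjoint M M₁ hMn h1n hd _ _ ha0 hb).symm)
      (fun b hb => commute_of_normal_of_disjoint M₂ M h2n hMn hd2 _ _ hb ha0)
    rw [ha1', orderOf_one] at hx
    omega
  have := hodd w hfix
  rw [orderOf_eq_prime hww hw1] at this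
  exact absurd this (by decide)

theorem solvable_of_odd_fixed (h3 : ¬ 3 ∣ Nat.card G) {σ : MulAut G} (hσ : σ ^ 3 = 1)
    (hodd : ∀ g, σ g = g → Odd (orderOf g)) : Group.IsSolvable G :=
  solvable_of_odd_fixed_aux _ G rfl h3 σ hσ hodd

/-- The automorphism is trivial modulo `O_{2',2}`. -/
theorem trivial_mod_pPrimePCore (h3 : ¬ 3 ∣ Nat.card G) {σ : MulAut G} (hσ : σ ^ 3 = 1)
    (hodd : ∀ g, σ g = g → Odd (orderOf g)) (g : G) : σ g * g⁻¹ ∈ Cfsg.pPrimePCore 2 G := by
  haveI := solvable_of_odd_fixed h3 hσ hodd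
  set O := pPrimeCore 2 G with hO
  have hOinv : O.map (σ : G ≃* G).toMonoidHom = O := by
    have hfi : Function.Injective (σ : G ≃* G).toMonoidHom := (σ : G ≃* G).injective
    refine Subgroup.eq_of_le_of_card_ge ?_ (by rw [Nat.card_congr (O.equivMapOfInjective _ hfi).toEquiv])
    haveI : (O.map (σ : G ≃* G).toMonoidHom).Normal :=
      (inferInstance : O.Normal).map _ (σ : G ≃* G).surjective
    exact Cfsg.Lib.Components.le_pPrimeCore (by
      rw [← Nat.card_congr (O.equivMapOfInjective _ hfi).toEquiv]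
      exact Cfsg.Lib.Components.coprime_card_pPrimeCore 2)
  obtain ⟨τ, hτ3, hτ1, hτo⟩ := exists_quotient_odd hσ h3 hodd O hOinv
  have h := trivial_mod_pCore (fun h => h3 (h.trans (card_quotient_dvd_card O)))
    Cfsg.Lib.Coprime.pPrimeCore_quotient_eq_bot τ hτ3 hτo (QuotientGroup.mk g)
  rw [hτ1] at h
  exact h

end Cfsg.Lib.ThreePrime
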